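import Cfsg.Agent.H2.Fi22z.Setup
import Cfsg.Agent.S0815
import Cfsg.Agent.H33.SylU.Transfer

/-!
A normal subgroup with quotient of order four avoiding `a` cannot be the unitary group in dimension
six with trivial centraliser.
-/

set_option autoImplicit false
set_option linter.style.haveILetI false
set_option linter.unusedSectionVars false

namespace Cfsg.Agent.H2.Fi22z

open Cfsg Subgroup
open scoped commutatorElement
open Cfsg.Agent.H49.USix (cj_fix_iff)
open H76.LocallyS3 (cj)

theorem card_aut_six {K : Type*} [Field K] [Fintype K] (hK : Fintype.card K = 4) :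
    Nat.card (MulAut (Cfsg.PSU 6 K 2)) = 6 * Nat.card (Cfsg.PSU 6 K 2) := by
  haveI : Fact (Nat.Prime 2) := ⟨Nat.prime_two⟩
  rw [Cfsg.Agent.S0815.result 2 1 le_rfl (by norm_num) (by rw [hK]; norm_num) 6 (by norm_num)
    (by norm_num)]
  norm_num

theorem Base.no_normal_six {G : Type*} [Group G] [Finite G] {z a : G} {J E : Subgroup G}
    (B : Base z a J E) (hswap : ∃ h : G, h * z = z * h ∧ cj h a = a * z)
    {K : Type*} [Field K] [Fintype K] (hK : Fintype.card K = 4)
    {N G₀ : Subgroup G} [G₀.Normal] (hzN : z ∈ N) (hidx : G₀.index = 4)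
    (e : ↥G₀ ≃* Cfsg.PSU 6 K 2) (hC : centralizer (G₀ : Set G) ⊓ N = ⊥)
    (hN : N.index = 2 ∨ N.index = 4) (hNn : N.Normal) : False := by
  have hcard : Nat.card G = 4 * Nat.card (Cfsg.PSU 6 K 2) := by
    rw [← Nat.card_congr e.toEquiv, ← card_mul_index G₀, hidx, mul_comm]
  set Z := centralizer (G₀ : Set G) with hZ
  by_cases hZb : Z = ⊥
  · let f : G →* MulAut ↥G₀ := MulAut.conjNormal
    have hf : Function.Injective f := by
      rw [injective_iff_map_eq_one]
      intro g hg
      have : g ∈ Z := mem_centralizer_iff.2 fun u hu => by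
        have h := congrArg Subtype.val (MulEquiv.congr_fun hg ⟨u, hu⟩)
        simp only [MulAut.conjNormal_apply, MulAut.one_apply] at h
        exact (mul_inv_eq_iff_eq_mul.1 h).symm
      rwa [hZb, mem_bot] at this
    have hd : Nat.card G ∣ Nat.card (MulAut ↥G₀) := card_dvd_of_injective f hf
    rw [Nat.card_congr (H33.SylU.autCongr e).toEquiv, card_aut_six hK, hcard] at hd
    have h4 : 4 ∣ 6 := (Nat.mul_dvd_mul_iff_right Nat.card_pos).1 hd
    norm_num at h4
  · obtain ⟨w, hw, hw1⟩ := (bot_or_exists_ne_one Z).resolve_left hZb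
    have hab : ∀ u ∈ Z, ∀ g : G, ⁅g, u⁆ ∈ N → g * u = u * g := by
      intro u hu g hg
      have hcz : ⁅g, u⁆ ∈ Z := by
        rw [commutatorElement_def]
        exact Z.mul_mem ((inferInstance : Z.Normal).conj_mem u hu g) (Z.inv_mem hu)
      have : ⁅g, u⁆ ∈ Z ⊓ N := ⟨hcz, hg⟩
      rw [hC, mem_bot, commutatorElement_eq_one_iff_mul_comm] at this
      exact this
    have hcomm : ∀ g u : G, ⁅g, u⁆ ∈ N := by
      intro g u
      rw [← QuotientGroup.eq_one_iff]
      exact (show ⁅(g : G ⧸ N), (u : G ⧸ N)⁆ = 1 from commutatorElement_eq_one_iff_mul_comm.2 (by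
        haveI : Fact (Nat.Prime 2) := ⟨Nat.prime_two⟩
        rcases hN with h | h
        · exact ((isCyclic_of_prime_card (α := G ⧸ N) (p := 2) h).commGroup.mul_comm _ _)
        · exact IsPGroup.commutative_of_card_eq_prime_sq (p := 2) (G := G ⧸ N) h _ _))
    have hwc : ∀ g : G, g * w = w * g := fun g => hab w hw g (hcomm g w)
    obtain ⟨h, hh, hha⟩ := hswap
    have hwz : w * z = z * w := (hwc z).symm
    rcases B.center_J (B.cent w hwz fun q _ => (hwc q).symm) (fun q _ => (hwc q).symm) with e | e | e | e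
    · exact hw1 e
    · have : w ∈ Z ⊓ N := ⟨hw, e ▸ hzN⟩
      rw [hC, mem_bot] at this
      exact hw1 this
    · exact B.az_ne_a (hha.symm.trans (cj_fix_iff.2 (e ▸ hwc h)))
    · have h2 := cj_fix_iff.2 (e ▸ hwc h)
      rw [H49.USix.cj_mul', hha, cj_fix_iff.2 hh, mul_assoc, B.z_sq, mul_one] at h2
      exact B.az_ne_a h2.symm

end Cfsg.Agent.H2.Fi22z
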