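import Cfsg.Agent.H2.Fi22z.Setup
import Cfsg.Agent.S0270
import Cfsg.Agent.S0814

/-!
The configuration from the hypotheses on the centraliser of `z`; with a swap the centraliser of the
four-group has the symplectic group as its quotient.
-/

set_option autoImplicit false
set_option linter.style.haveILetI false
set_option maxRecDepth 20000
set_option linter.unusedSectionVars false

namespace Cfsg.Agent.H2.Fi22z

open Cfsg Subgroup
open scoped commutatorElement
open H76.LocallyS3 (cj cj_cj cj_injective)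
open Cfsg.Agent.H49.USix (cj_fix_iff cj_mul')

theorem exists_base {G : Type*} [Group G] [Finite G] (z : G) (hz : orderOf z = 2)
    (A E : Subgroup ↥(centralizer ({z} : Set G)))
    (hAE : Cfsg.IsInternalDirectProduct A E (Cfsg.pCore 2 ↥(centralizer ({z} : Set G))))
    (hA : Nat.card ↥A = 2) (hE : Cfsg.IsExtraspecial 2 ↥E) (hEc : Nat.card ↥E = 2 ^ 9)
    (zc : ↥(centralizer ({z} : Set G))) (hzc : (zc : G) = z)
    (hJ' : ⁅Cfsg.pCore 2 ↥(centralizer ({z} : Set G)), Cfsg.pCore 2 ↥(centralizer ({z} : Set G))⁆ =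
      zpowers zc)
    (hCJ : centralizer ((Cfsg.pCore 2 ↥(centralizer ({z} : Set G))) :
      Set ↥(centralizer ({z} : Set G))) ≤ Cfsg.pCore 2 ↥(centralizer ({z} : Set G))) :
    ∃ a : G, Base z a ((Cfsg.pCore 2 ↥(centralizer ({z} : Set G))).map
      (centralizer ({z} : Set G)).subtype) (E.map (centralizer ({z} : Set G)).subtype) := by
  classical
  haveI : Fact (Nat.Prime 2) := ⟨Nat.prime_two⟩
  let C := centralizer ({z} : Set G)
  set Jc := Cfsg.pCore 2 ↥C with hJc
  obtain ⟨hAJ, hEJ, hcomm, hinf, hsup⟩ := hAE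
  obtain ⟨α, hα1, huniq⟩ := (Nat.card_eq_two_iff' (1 : ↥A)).1 hA
  have hAmem : ∀ x ∈ A, x = 1 ∨ x = (α : ↥C) := fun x hx => by
    by_cases h : (⟨x, hx⟩ : ↥A) = 1
    · exact Or.inl (congrArg Subtype.val h)
    · exact Or.inr (congrArg Subtype.val (huniq ⟨x, hx⟩ h))
  have hαα : (α : ↥C) * α = 1 := congrArg Subtype.val
    (show α * α = 1 by rw [← pow_two, ← hA]; exact pow_card_eq_one')
  have hdec : ∀ q ∈ Jc, q ∈ E ∨ (α : ↥C) * q ∈ E := by
    intro q hq
    rw [← hsup, ← A.range_subtype, ← E.range_subtype,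
      ← MonoidHom.noncommCoprod_range A.subtype E.subtype (fun x y => hcomm x x.2 y y.2)] at hq
    obtain ⟨⟨x, y⟩, rfl⟩ := hq
    show (x : ↥C) * y ∈ E ∨ (α : ↥C) * ((x : ↥C) * y) ∈ E
    rcases hAmem x x.2 with e | e
    · left; rw [e, one_mul]; exact y.2
    · right; rw [e, ← mul_assoc, hαα, one_mul]; exact y.2
  have hαc : ∀ q ∈ Jc, Commute (α : ↥C) q := by
    intro q hq
    rcases hdec q hq with h | h
    · exact hcomm _ α.2 _ h
    · have e : q = (α : ↥C) * ((α : ↥C) * q) := by rw [← mul_assoc, hαα, one_mul]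
      rw [e]; exact (Commute.refl _).mul_right (hcomm _ α.2 _ h)
  have hzE : zc ∈ E := by
    have hle : ⁅Jc, Jc⁆ ≤ E := by
      refine commutator_le.2 fun p hp q hq => ?_
      have hpq : ∀ p ∈ Jc, ∀ q ∈ Jc, ⁅(α : ↥C) * p, q⁆ = ⁅p, q⁆ ∧ ⁅p, (α : ↥C) * q⁆ = ⁅p, q⁆ := by
        intro p hp q hq
        constructor
        · rw [commutatorElement_def, commutatorElement_def, mul_inv_rev]
          calc (α : ↥C) * p * q * (p⁻¹ * (α : ↥C)⁻¹) * q⁻¹
              = (α : ↥C) * (p * q * p⁻¹) * (α : ↥C)⁻¹ * q⁻¹ := by group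
            _ = _ := by rw [(hαc _ (Jc.mul_mem (Jc.mul_mem hp hq) (Jc.inv_mem hp))).eq]; group
        · rw [commutatorElement_def, commutatorElement_def, mul_inv_rev]
          calc p * ((α : ↥C) * q) * p⁻¹ * (q⁻¹ * (α : ↥C)⁻¹)
              = p * (α : ↥C) * (q * p⁻¹ * q⁻¹) * (α : ↥C)⁻¹ := by group
            _ = _ := by
              rw [← (hαc p hp).eq, mul_assoc (α : ↥C) p,
                (hαc _ (Jc.mul_mem hp (Jc.mul_mem (Jc.mul_mem hq (Jc.inv_mem hp)) (Jc.inv_mem hq)))).eq]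
              group
      have hE' : ∀ p ∈ E, ∀ q ∈ E, ⁅p, q⁆ ∈ E := fun p hp q hq =>
        E.mul_mem (E.mul_mem (E.mul_mem hp hq) (E.inv_mem hp)) (E.inv_mem hq)
      rcases hdec p hp with h | h <;> rcases hdec q hq with h' | h'
      · exact hE' p h q h'
      · exact (hpq p hp q hq).2 ▸ hE' p h _ h'
      · exact (hpq p hp q hq).1 ▸ hE' _ h q h'
      · have e := hE' _ h _ h'
        rwa [(hpq p hp _ (Jc.mul_mem (hAJ α.2) hq)).1, (hpq p hp q hq).2] at e
    exact hle (hJ' ▸ mem_zpowers zc)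
  refine ⟨((α : ↥C) : G), ⟨hz, congrArg Subtype.val hαα, fun e => hα1 (Subtype.ext (Subtype.ext e)),
    fun e => ?_, ⟨zc, hzE, hzc⟩, ⟨_, hAJ α.2, rfl⟩, Subgroup.map_mono hEJ, ?_, ?_, ?_, ?_, ?_, ?_, ?_, ?_, ?_⟩⟩
  · have h1 : (α : ↥C) = zc := Subtype.ext (e.trans hzc.symm)
    have h2 : (α : ↥C) ∈ A ⊓ E := ⟨α.2, h1 ▸ hzE⟩
    rw [hinf, mem_bot] at h2
    exact hα1 (Subtype.ext h2)
  · rintro ⟨y, hy, e⟩
    have h2 : (α : ↥C) ∈ A ⊓ E := ⟨α.2, (Subtype.ext e : y = (α : ↥C)) ▸ hy⟩
    rw [hinf, mem_bot] at h2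
    exact hα1 (Subtype.ext h2)
  · rintro _ ⟨q, hq, rfl⟩
    exact (hdec q hq).imp (fun h => mem_map_of_mem _ h) fun h => ⟨_, h, rfl⟩
  · exact H92.isExtraspecial_of_mulEquiv (E.equivMapOfInjective _ C.subtype_injective) hE
  · rw [← Nat.card_congr (E.equivMapOfInjective _ C.subtype_injective).toEquiv, hEc]
  · rintro _ ⟨q, hq, rfl⟩
    exact ⟨mem_centralizer_singleton_iff.1 q.2, congrArg Subtype.val (hαc q hq).eq.symm⟩
  · exact (Cores.pCore_isPGroup (p := 2) (G := ↥C)).map _
  · rintro h hh _ ⟨q, hq, rfl⟩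
    haveI : Jc.Normal := pCore_normal 2 _
    exact ⟨⟨h, mem_centralizer_singleton_iff.2 hh⟩ * q * ⟨h, mem_centralizer_singleton_iff.2 hh⟩⁻¹,
      Subgroup.Normal.conj_mem inferInstance q hq _, rfl⟩
  · intro x hx h
    refine ⟨⟨x, mem_centralizer_singleton_iff.2 hx⟩, hCJ (mem_centralizer_iff.2 fun q hq => ?_), rfl⟩
    exact Subtype.ext (h _ ⟨q, hq, rfl⟩).symm
  · intro N hN hle hnorm
    have hNC : N ≤ C := fun n hn => mem_centralizer_singleton_iff.2 (hle n hn)
    have hn : (N.subgroupOf C).Normal := ⟨fun n hn g => by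
      rw [mem_subgroupOf] at hn ⊢
      exact hnorm g (mem_centralizer_singleton_iff.1 g.2) n hn⟩
    intro n hn'
    exact ⟨⟨n, hNC hn'⟩, le_sSup (s := {N : Subgroup ↥C | N.Normal ∧ IsPGroup 2 N})
      ⟨hn, hN.comap_subtype⟩ (mem_subgroupOf.2 hn'), rfl⟩

/-- The inner automorphisms form the only subgroup of index two. -/
theorem inner_unique {S : Type*} [Group S] [Finite S] [IsSimpleGroup S] (hc : center S = ⊥)
    (h2 : 2 < Nat.card S) (hcard : Nat.card (MulAut S) = 2 * Nat.card S) (M : Subgroup (MulAut S))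
    (hM : M.index = 2) : M = (MulAut.conj : S →* MulAut S).range := by
  have hinj : Function.Injective (MulAut.conj : S →* MulAut S) := by
    rw [injective_iff_map_eq_one]
    intro s hs
    have : s ∈ center S := mem_center_iff.2 fun t => by
      have := MulEquiv.congr_fun hs t
      simp only [MulAut.conj_apply, MulAut.one_apply] at this
      exact (mul_inv_eq_iff_eq_mul.1 this).symm
    rwa [hc, mem_bot] at this
  haveI : M.Normal := normal_of_index_eq_two hM
  have hle : (MulAut.conj : S →* MulAut S).range ≤ M := by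
    rintro _ ⟨s, rfl⟩
    rcases IsSimpleGroup.eq_bot_or_eq_top_of_normal (M.comap (MulAut.conj : S →* MulAut S))
      inferInstance with h | h
    · exfalso
      have hsq : ∀ t : S, t * t = 1 := fun t => by
        have : t * t ∈ M.comap (MulAut.conj : S →* MulAut S) := by
          rw [mem_comap, map_mul]; exact mul_self_mem_of_index_two hM _
        rwa [h, mem_bot] at this
      have hab : ∀ u v : S, u * v = v * u := fun u v => by
        have iu : ∀ t : S, t⁻¹ = t := fun t => inv_eq_of_mul_eq_one_right (hsq t)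
        rw [← iu (u * v), mul_inv_rev, iu, iu]
      have : center S = ⊤ := eq_top_iff.2 fun u _ => mem_center_iff.2 fun v => hab v u
      rw [hc] at this
      have := congrArg (fun K : Subgroup S => Nat.card K) this
      simp only [card_top, card_bot] at this
      omega
    · exact mem_comap.1 (h ▸ mem_top s)
  refine (eq_of_le_of_card_ge hle ?_).symm
  have h1 := M.card_mul_index
  rw [hM, hcard] at h1
  rw [← Nat.card_congr (MonoidHom.ofInjective hinj).toEquiv]
  omega

namespace Base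

variable {G : Type*} [Group G] [Finite G] {z a : G} {J E : Subgroup G} (B : Base z a J E)
include B

theorem swap_index (hswap : ∃ h : G, h * z = z * h ∧ cj h a = a * z) :
    ((cent2 z a).subgroupOf (centralizer ({z} : Set G))).index = 2 := by
  obtain ⟨h, hh, hha⟩ := hswap
  rw [index_eq_two_iff]
  refine ⟨⟨h, mem_centralizer_singleton_iff.2 hh⟩, fun b => ?_⟩
  have hbz : (b : G) * z = z * b := mem_centralizer_singleton_iff.1 b.2
  have e : ∀ x : G, x * z = z * x → (x ∈ cent2 z a ↔ cj x a = a) := fun x hx =>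
    ⟨fun hx' => cj_fix_iff.2 (mem_cent2.1 hx').2, fun hx' => mem_cent2.2 ⟨hx, cj_fix_iff.1 hx'⟩⟩
  rw [mem_subgroupOf, mem_subgroupOf, coe_mul,
    e _ (Commute.mul_left (show Commute (b : G) z from hbz) hh).eq, e _ hbz, ← cj_cj, hha, cj_mul',
    cj_fix_iff.2 hbz]
  rcases B.fix_or hbz with e' | e' <;> rw [e']
  · exact Or.inr ⟨rfl, B.az_ne_a⟩
  · exact Or.inl ⟨by rw [mul_assoc, B.z_sq, mul_one], B.az_ne_a⟩

/-- With a swap the centraliser of the four-group induces the inner automorphisms. -/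
theorem exists_chi {F : Type*} [Field F] [Fintype F] (hF : Fintype.card F = 3)
    [(Cfsg.pCore 2 ↥(centralizer ({z} : Set G))).Normal]
    (hJ : J = (Cfsg.pCore 2 ↥(centralizer ({z} : Set G))).map (centralizer ({z} : Set G)).subtype)
    (e : (↥(centralizer ({z} : Set G)) ⧸ Cfsg.pCore 2 ↥(centralizer ({z} : Set G))) ≃*
      MulAut (Cfsg.PSp 2 F))
    (hswap : ∃ h : G, h * z = z * h ∧ cj h a = a * z) :
    ∃ χ : ↥(cent2 z a) →* Cfsg.PSp 2 F, Function.Surjective χ ∧
      ∀ c, χ c = 1 ↔ (c : G) ∈ J := by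
  classical
  haveI : Fact (Nat.Prime 3) := ⟨by norm_num⟩
  haveI hS := Cfsg.Agent.S0270.result (F := F) 2 le_rfl (fun _ => by omega)
  have hcardA : Nat.card (MulAut (Cfsg.PSp 2 F)) = 2 * Nat.card (Cfsg.PSp 2 F) := by
    rw [Cfsg.Agent.S0814.result 3 1 le_rfl (by rw [hF]; norm_num) 2 le_rfl (fun _ => by norm_num)]
    norm_num
  have hcardS : Nat.card (Cfsg.PSp 2 F) = 25920 := by
    rw [Symplectic.card_psp 2 F (by norm_num), hF, Finset.prod_range_succ, Finset.prod_range_one]
    norm_num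
  have hc : center (Cfsg.PSp 2 F) = ⊥ := by
    rcases IsSimpleGroup.eq_bot_or_eq_top_of_normal (center (Cfsg.PSp 2 F)) inferInstance with h | h
    · exact h
    · exfalso
      have hab : ∀ u v : Cfsg.PSp 2 F, u * v = v * u := fun u v =>
        (mem_center_iff.1 (h ▸ mem_top u) v).symm
      letI : CommGroup (Cfsg.PSp 2 F) := { (inferInstance : Group (Cfsg.PSp 2 F)) with mul_comm := hab }
      have := IsSimpleGroup.prime_card (α := Cfsg.PSp 2 F)
      rw [hcardS] at this
      norm_num at this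
  let C := centralizer ({z} : Set G)
  let ψ : ↥C →* MulAut (Cfsg.PSp 2 F) := e.toMonoidHom.comp (QuotientGroup.mk' _)
  have hψk : ∀ c : ↥C, ψ c = 1 ↔ (c : G) ∈ J := fun c => by
    show e (QuotientGroup.mk c) = 1 ↔ _
    rw [map_eq_one_iff e e.injective, QuotientGroup.eq_one_iff, hJ]
    exact ⟨fun h => ⟨c, h, rfl⟩, fun ⟨d, hd, h⟩ => by rwa [show c = d from Subtype.ext h.symm]⟩
  have hψs : Function.Surjective ψ := e.surjective.comp (QuotientGroup.mk'_surjective _)
  have hker : ψ.ker ≤ (cent2 z a).subgroupOf C := fun c hc => B.J_le ((hψk c).1 hc)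
  have hidx : (((cent2 z a).subgroupOf C).map ψ).index = 2 := by
    rw [index_map_eq _ hψs hker, B.swap_index hswap]
  have hM := inner_unique hc (by omega) hcardA _ hidx
  have hinj : Function.Injective (MulAut.conj : Cfsg.PSp 2 F →* MulAut (Cfsg.PSp 2 F)) := by
    rw [injective_iff_map_eq_one]
    intro s hs
    have : s ∈ center (Cfsg.PSp 2 F) := mem_center_iff.2 fun t => by
      have := MulEquiv.congr_fun hs t
      simp only [MulAut.conj_apply, MulAut.one_apply] at this
      exact (mul_inv_eq_iff_eq_mul.1 this).symm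
    rwa [hc, mem_bot] at this
  let φ : ↥(cent2 z a) →* ↥(MulAut.conj : Cfsg.PSp 2 F →* MulAut (Cfsg.PSp 2 F)).range :=
    (ψ.comp (Subgroup.inclusion (inf_le_left : cent2 z a ≤ C))).codRestrict _ fun c => by
      rw [← hM]
      exact mem_map_of_mem _ (mem_subgroupOf.2 c.2)
  refine ⟨(MonoidHom.ofInjective hinj).symm.toMonoidHom.comp φ,
    (MonoidHom.ofInjective hinj).symm.surjective.comp ?_, fun c => ?_⟩
  · intro y
    have hy : (y : MulAut (Cfsg.PSp 2 F)) ∈ ((cent2 z a).subgroupOf C).map ψ := hM.ge y.2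
    obtain ⟨c, hc', he⟩ := hy
    exact ⟨⟨c, mem_subgroupOf.1 hc'⟩, Subtype.ext he⟩
  · show (MonoidHom.ofInjective hinj).symm (φ c) = 1 ↔ _
    rw [map_eq_one_iff _ (MonoidHom.ofInjective hinj).symm.injective, Subtype.ext_iff]
    exact hψk _

end Base

end Cfsg.Agent.H2.Fi22z
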