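import Cfsg.Agent.H2.Fi22z.Degen
import Cfsg.Agent.H2.Fi22z.Hyp
import Cfsg.Agent.H49.UChar.Setup

/-!
The centraliser of `a` modulo `⟨a⟩` satisfies the hypotheses of the extraspecial centraliser
configuration; the natural shape and a normal odd complement make `z` isolated.
-/

set_option autoImplicit false
set_option linter.style.haveILetI false
set_option maxRecDepth 20000
set_option linter.unusedSectionVars false

namespace Cfsg.Agent.H2.Fi22z

open Cfsg Subgroup
open Cfsg.Agent.H49.USix Cfsg.Agent.H49.UChar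
open H76.LocallyS3 (cj)

namespace Base

variable {G : Type*} [Group G] [Finite G] {z a : G} {J E : Subgroup G} (B : Base z a J E)
include B

/-- The representation of the centraliser of the image of `z`. -/
theorem exists_pre_QA {F : Type*} [Field F] [Fintype F] (hF : Fintype.card F = 3)
    (χ : ↥(cent2 z a) →* Cfsg.PSp 2 F) (hs : Function.Surjective χ)
    (hk : ∀ c, χ c = 1 ↔ (c : G) ∈ J) : Nonempty (Pre B.zQ B.JQ) := by
  haveI : (Cfsg.pCore 2 ↥(centralizer ({B.zQ} : Set (QA a)))).Normal := by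
    haveI : Fact (Nat.Prime 2) := ⟨Nat.prime_two⟩
    exact pCore_normal 2 _
  obtain ⟨e⟩ := B.quot_equiv χ hs hk
  exact exists_pre B.zQ_ord hF B.core_extra.1 B.core_extra.2 B.core_cent e

/-- Natural shape with swap and degenerate centraliser of `a`. -/
theorem natural_degenerate (P : Pre B.zQ B.JQ) (h0 : Nat.card ↥P.R.P0 = 1)
    (h4 : ∀ k : Fin 13, (k : ℕ) < 4 → Nat.card ↥(P.R.P k) = 4)
    (h1 : ∀ k : Fin 13, 4 ≤ (k : ℕ) → Nat.card ↥(P.R.P k) = 1)
    (hswap : ∃ h : G, h * z = z * h ∧ cj h a = a * z)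
    (hX : centralizer ({B.zQ} : Set (QA a)) ⊔ Cfsg.oddCore (QA a) = ⊤) :
    centralizer ({z} : Set G) ⊔ Cfsg.oddCore G = ⊤ := by
  obtain ⟨C⟩ := P.core h0 h4 h1
  obtain ⟨M⟩ := B.mod_of_core C
  exact B.degenerate M hswap hX

end Base

end Cfsg.Agent.H2.Fi22z
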