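import Cfsg.Agent.H49.USix.Setup

/-!
The centraliser and the membership predicate of the four-group `⟨z, a⟩`.
-/

set_option autoImplicit false
set_option linter.style.haveILetI false

namespace Cfsg.Agent.H2.Fi22z

/-- Centralising both involutions. -/
def InC {G : Type*} [Group G] (z a h : G) : Prop := h * z = z * h ∧ h * a = a * h

/-- Membership in the four-group. -/
def InV {G : Type*} [Group G] (z a x : G) : Prop := x = 1 ∨ x = z ∨ x = a ∨ x = a * z

open H76.LocallyS3 (cj) in
theorem cj_inv_left {G : Type*} [Group G] (g x : G) : cj g (cj g⁻¹ x) = x := by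
  simp [cj, mul_assoc]

open H76.LocallyS3 (cj) in
theorem cj_inv_left' {G : Type*} [Group G] (g x : G) : cj g (g⁻¹ * x * g) = x := by
  simp [cj, mul_assoc]

open H76.LocallyS3 (cj) in
theorem cj_conj {G : Type*} [Group G] (g p w : G) : cj (cj g p) (cj g w) = cj g (cj p w) := by
  simp [cj, mul_assoc]

open H76.LocallyS3 (cj) in
theorem cj_comm {G : Type*} [Group G] {g p q : G} (e : p * q = q * p) :
    cj g p * cj g q = cj g q * cj g p := by
  rw [← H49.USix.cj_mul', ← H49.USix.cj_mul', e]

end Cfsg.Agent.H2.Fi22z
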