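import Cfsg.Agent.H2.Fi22z.Twin

/-!
If the centraliser of `a` is the pair centraliser times a normal odd subgroup and some element of the
centraliser of `z` moves `a` to `a z`, then `z` is isolated.
-/

set_option autoImplicit false
set_option linter.style.haveILetI false
set_option maxRecDepth 20000
set_option linter.unusedSectionVars false

namespace Cfsg.Agent.H2.Fi22z

open Cfsg
open Cfsg.Agent.H49.USix Cfsg.Agent.H49.UChar
open Cfsg.Agent.H92.ExtraForm (zp)
open H76.LocallyS3 (cj cj_cj cj_injective)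

/-- The swapped degenerate configuration. -/
structure Swapped {G : Type*} [Group G] (z a : G) (J W : Subgroup G) extends Mod z a J where
  a_ne : a ≠ 1
  a_ne_z : a ≠ z
  fix_or : ∀ h : G, h * z = z * h → cj h a = a ∨ cj h a = a * z
  normH : ∀ h : G, h * z = z * h → ∀ q ∈ J, cj h q ∈ J
  swap : ∃ h : G, h * z = z * h ∧ cj h a = a * z
  W_comm : ∀ w ∈ W, w * a = a * w
  W_norm : ∀ h : G, h * a = a * h → ∀ w ∈ W, cj h w ∈ W
  W_odd : ∀ w ∈ W, Odd (orderOf w)
  dec : ∀ h : G, h * a = a * h → ∃ w ∈ W, ∃ k, InC z a k ∧ h = w * k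

namespace Mod

variable {G : Type*} [Group G] [Finite G] {z a : G} {J : Subgroup G} (M : Mod z a J)
include M

theorem cj_z {h : G} (hh' : h * z = z * h) : cj h z = z := cj_fix_iff.2 hh'

theorem cj_z' {h : G} (hh' : InC z a h) : cj h z = z := cj_fix_iff.2 hh'.1

theorem J_four {t : G} (ht : t ∈ J) : t ^ 4 = 1 := by
  have h : (t * t) * (t * t) = 1 := by
    rw [M.sq t ht]
    rcases zmod2_cases (wt4 (M.π t)) with e | e <;> rw [e] <;> simp [zp, M.z_sq]
  rw [← h, pow_succ, pow_succ, pow_succ, pow_one]; group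

theorem J_odd {t : G} (ht : t ∈ J) (ho : Odd (orderOf t)) : t = 1 := by
  have h4 : orderOf t ∣ 2 ^ 2 := orderOf_dvd_of_pow_eq_one (M.J_four ht)
  obtain ⟨i, -, hi⟩ := (Nat.dvd_prime_pow Nat.prime_two).1 h4
  rcases Nat.eq_zero_or_pos i with rfl | hp
  · exact orderOf_eq_one_iff.1 (by rw [hi, pow_zero])
  · rw [hi] at ho
    exact absurd ho (Nat.not_odd_iff_even.2 (Nat.even_pow.2 ⟨even_two, by omega⟩))

theorem sq_inV {t : G} (ht : t ∈ J) : InV z a (t⁻¹ * t⁻¹) := by
  rw [M.sq _ (J.inv_mem ht)]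
  rcases zmod2_cases (wt4 (M.π t⁻¹)) with e | e <;> rw [e] <;> simp [zp, InV]

/-- An element centralising the core is trivial if of odd order. -/
theorem odd_cent {x : G} (hx : InC z a x) (ho : Odd (orderOf x))
    (h : ∀ q ∈ J, x * q = q * x) : x = 1 := by
  refine M.J_odd ((M.ρ_ker x hx).1 (Equiv.ext fun w => ?_)) ho
  obtain ⟨q, hq, rfl⟩ := M.π_surj w
  exact M.ρ_fix hx hq (h q hq)

/-- An odd element centralising an involution and its fixed points in the core is trivial. -/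
theorem thompson {c x : G} (hc : InC z a c) (hcc : c * c = 1) (hx : InC z a x) (hxc : x * c = c * x)
    (ho : Odd (orderOf x)) (hP : ∀ p ∈ J, c * p = p * c → x * p = p * x) : x = 1 := by
  have iter : ∀ q ∈ J, x * (q⁻¹ * cj x q) = (q⁻¹ * cj x q) * x → x * q = q * x := by
    intro q hq hf
    set t := q⁻¹ * cj x q with ht
    have e1 : cj x q = q * t := (mul_inv_cancel_left q _).symm
    have hn : ∀ n : ℕ, cj (x ^ n) q = q * t ^ n := by
      intro n
      induction n with
      | zero => simp [cj]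
      | succ n ih =>
        rw [pow_succ', ← cj_cj, ih, cj_mul', e1,
          cj_fix_iff.2 ((show Commute x t from hf).pow_right n).eq, mul_assoc, ← pow_succ']
    have h1 := hn (orderOf x)
    rw [pow_orderOf_eq_one, cj_one', eq_comm, mul_eq_left] at h1
    have ho' : Odd (orderOf t) := ho.of_dvd_nat (orderOf_dvd_of_pow_eq_one h1)
    have ht1 := M.J_odd (J.mul_mem (J.inv_mem hq) (M.norm x hx q hq)) ho'
    exact cj_fix_iff.1 (by rw [e1, ht, ht1, mul_one])
  have stage : ∀ q ∈ J, InV z a (q⁻¹ * cj c q) → x * q = q * x := by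
    intro q hq hf
    refine iter q hq (hP _ (J.mul_mem (J.inv_mem hq) (M.norm x hx q hq)) (cj_fix_iff.1 ?_))
    set f := q⁻¹ * cj c q with hfdef
    have e1 : cj c q = q * f := (mul_inv_cancel_left q _).symm
    have e2 : cj c q⁻¹ = f⁻¹ * q⁻¹ := by rw [← mul_inv_rev, ← e1]; simp [cj, mul_assoc]
    rw [cj_mul', e2, cj_cj, ← hxc, ← cj_cj, e1, cj_mul', cj_fix_iff.2 (M.V_comm hf hx)]
    have := M.V_comm hf (M.le _ (J.mul_mem (J.inv_mem hq) (M.norm x hx q hq)))
    calc f⁻¹ * q⁻¹ * (cj x q * f) = f⁻¹ * (q⁻¹ * cj x q * f) := by group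
      _ = q⁻¹ * cj x q := by rw [this, inv_mul_cancel_left]
  refine M.odd_cent hx ho fun q hq => iter q hq ?_
  set y := q⁻¹ * cj c q with hy
  have hyJ : y ∈ J := J.mul_mem (J.inv_mem hq) (M.norm c hc q hq)
  have hyy : cj c y = y⁻¹ := by
    rw [hy, cj_mul', cj_cj, hcc, cj_one']
    simp [cj, mul_assoc]
  have hxy := stage y hyJ (by rw [hyy]; exact M.sq_inV hyJ)
  set t := q⁻¹ * cj x q with ht
  have htJ : t ∈ J := J.mul_mem (J.inv_mem hq) (M.norm x hx q hq)
  have e1 : cj c q = q * y := (mul_inv_cancel_left q _).symm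
  have e3 : cj c q⁻¹ = y⁻¹ * q⁻¹ := by rw [← mul_inv_rev, ← e1]; simp [cj, mul_assoc]
  have e2 : cj c t = y⁻¹ * t * y := by
    rw [ht, cj_mul', e3, cj_cj, ← hxc, ← cj_cj, e1, cj_mul', cj_fix_iff.2 hxy]
    group
  refine stage t htJ ?_
  rw [e2, show t⁻¹ * (y⁻¹ * t * y) = (y * t)⁻¹ * (t * y) by group, M.comm y hyJ t htJ,
    inv_mul_cancel_left]
  rcases zmod2_cases (pol4 (M.π y) (M.π t)) with e | e <;> rw [e] <;> simp [zp, InV]

theorem isotropic_cover {c : Fin 3 → W4} {S : Set W4}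
    (hiso : ∀ u ∈ S, ∀ v ∈ S, pol4 u v = 0)
    (hcov : ∀ w, w ∈ S ∨ ∃ i, c i + w ∈ S) : False := by
  classical
  have hinj : Set.InjOn (fun u i => pol4 u (c i)) S := by
    intro u hu v hv e
    refine vec_eq_of_add (pol4_nondeg fun w => ?_)
    rw [pol4_add_left]
    rcases hcov w with hw | ⟨i, hw⟩
    · rw [hiso u hu w hw, hiso v hv w hw, add_zero]
    · have h1 := hiso u hu _ hw
      have h2 := hiso v hv _ hw
      rw [pol4_add_right'] at h1 h2
      have e' := congrFun e i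
      simp only at e'
      revert h1 h2 e'
      generalize pol4 u (c i) = p
      generalize pol4 v (c i) = q
      generalize pol4 u w = r
      generalize pol4 v w = t
      revert p q r t
      decide
  have h8 : S.ncard ≤ 8 := by
    refine le_trans (Set.ncard_le_ncard_of_injOn (fun u i => pol4 u (c i)) (fun u _ => Set.mem_univ _)
      hinj) ?_
    rw [Set.ncard_univ, Nat.card_fun, Nat.card_eq_fintype_card, ZMod.card, Nat.card_eq_fintype_card,
      Fintype.card_fin]
    norm_num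
  have h256 : (Set.univ : Set W4) ⊆ S ∪ ⋃ i, (fun u => c i + u) '' S := by
    intro w _
    rcases hcov w with hw | ⟨i, hw⟩
    · exact Or.inl hw
    · exact Or.inr (Set.mem_iUnion.2 ⟨i, c i + w, hw, by show c i + (c i + w) = w; rw [← add_assoc, vec_add_self, zero_add]⟩)
  have h := (Set.ncard_le_ncard h256).trans (Set.ncard_union_le _ _)
  have h' : (⋃ i, (fun u => c i + u) '' S).ncard ≤ ∑ i : Fin 3, ((fun u => c i + u) '' S).ncard :=
    Set.ncard_iUnion_le_of_fintype _
  have h'' : ∀ i, ((fun u => c i + u) '' S).ncard ≤ S.ncard := fun i => Set.ncard_image_le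
  rw [Set.ncard_univ, Nat.card_fun, Nat.card_eq_fintype_card, H41.SUSix.hK,
    Nat.card_eq_fintype_card, Fintype.card_fin] at h
  rw [Fin.sum_univ_three] at h'
  have a0 := h'' 0
  have a1 := h'' 1
  have a2 := h'' 2
  omega

/-- A subgroup of the core of small index is not abelian. -/
theorem exists_noncomm (K : G → Prop) (r : Fin 3 → G) (hr : ∀ i, r i ∈ J)
    (hcov : ∀ x ∈ J, K x ∨ ∃ i, K ((r i)⁻¹ * x)) :
    ∃ p ∈ J, ∃ q ∈ J, K p ∧ K q ∧ pol4 (M.π p) (M.π q) = 1 := by
  by_contra hcon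
  refine M.isotropic_cover (c := fun i => M.π (r i)) (S := M.π '' {x | x ∈ J ∧ K x}) ?_ ?_
  · rintro _ ⟨p, ⟨hp, hKp⟩, rfl⟩ _ ⟨q, ⟨hq, hKq⟩, rfl⟩
    by_contra hne
    exact hcon ⟨p, hp, q, hq, hKp, hKq, zmod2_one _ hne⟩
  · intro w
    obtain ⟨x, hx, rfl⟩ := M.π_surj w
    rcases hcov x hx with h | ⟨i, h⟩
    · exact Or.inl ⟨x, ⟨hx, h⟩, rfl⟩
    · refine Or.inr ⟨i, _, ⟨J.mul_mem (J.inv_mem (hr i)) hx, h⟩, ?_⟩
      rw [M.π_mul _ (J.inv_mem (hr i)) _ hx, M.π_inv (hr i)]

end Mod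

namespace Swapped

variable {G : Type*} [Group G] [Finite G] {z a : G} {J W : Subgroup G} (S : Swapped z a J W)
include S

theorem inC_z : InC z a z := ⟨rfl, S.az.symm⟩

theorem inC_a : InC z a a := ⟨S.az, rfl⟩

theorem cap {w : G} (hw : w ∈ W) (hc : InC z a w) : w = 1 := by
  refine S.odd_cent hc (S.W_odd w hw) fun q hq => ?_
  have h1 : w * q * w⁻¹ * q⁻¹ ∈ J := J.mul_mem (S.norm w hc q hq) (J.inv_mem hq)
  have h2 : w * q * w⁻¹ * q⁻¹ ∈ W := by
    have := W.mul_mem hw (S.W_norm q (S.le q hq).2 _ (W.inv_mem hw))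
    rwa [cj, ← mul_assoc, ← mul_assoc] at this
  have h3 := S.J_odd h1 (S.W_odd _ h2)
  rw [mul_inv_eq_one, mul_inv_eq_iff_eq_mul] at h3
  exact h3

theorem trick {t w k : G} (ht : InC z a t) (hw : w ∈ W) (hk : InC z a k)
    (e : t * (w * k) = w * k * t) : t * w = w * t ∧ t * k = k * t := by
  have hmul : cj t w * cj t k = w * k := by rw [← cj_mul']; exact cj_fix_iff.2 e
  have hW : w⁻¹ * cj t w ∈ W := W.mul_mem (W.inv_mem hw) (S.W_norm t ht.2 w hw)
  have hC : w⁻¹ * cj t w = k * (cj t k)⁻¹ := by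
    rw [eq_mul_inv_iff_mul_eq, mul_assoc, hmul, inv_mul_cancel_left]
  have h1 : w⁻¹ * cj t w = 1 :=
    S.cap hW (hC ▸ S.inC_mul hk (S.inC_inv (S.inC_cj ht hk)))
  have e1 : cj t w = w := (inv_mul_eq_one.1 h1).symm
  rw [e1, mul_left_cancel_iff] at hmul
  exact ⟨cj_fix_iff.1 e1, cj_fix_iff.1 hmul⟩

theorem fixed_a {g : G} (hg : g * a = a * g) (hu : InC z a (cj g z)) : cj g z = z := by
  obtain ⟨w, hw, k, hk, rfl⟩ := S.dec g hg
  rw [← cj_cj, S.toMod.cj_z' hk] at hu ⊢
  have hW : z * cj w z ∈ W := by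
    have : z * cj w z = cj z w * w⁻¹ := by
      simp only [cj, inv_eq_of_mul_eq_one_right S.z_sq, mul_assoc]
    rw [this]
    exact W.mul_mem (S.W_norm z S.inC_z.2 w hw) (W.inv_mem hw)
  have h1 := S.cap hW (S.inC_mul S.inC_z hu)
  rw [mul_eq_one_iff_eq_inv'] at h1
  rw [h1, inv_eq_of_mul_eq_one_right S.z_sq]

theorem not_a (g : G) : cj g z ≠ a := by
  intro e
  obtain ⟨h, hh, hha⟩ := S.swap
  set v := cj g⁻¹ z with hv
  have back : ∀ {p : G}, p * z = z * p → cj g p * a = a * cj g p := fun hp => e ▸ cj_comm hp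
  have hW1 : ∀ w ∈ W, w = 1 := by
    intro w hw
    have hwC : cj g⁻¹ w * z = z * cj g⁻¹ w := by
      have := cj_comm (g := g⁻¹) (S.W_comm w hw)
      rwa [← e, cj_inv_cj'] at this
    have ho : Odd (orderOf (cj g⁻¹ w)) := by
      rw [show cj g⁻¹ w = MulAut.conj g⁻¹ w from rfl, MulEquiv.orderOf_eq]
      exact S.W_odd w hw
    have hall : ∀ q ∈ J, cj g⁻¹ w * q = q * cj g⁻¹ w := fun q hq => by
      have h1 : cj g⁻¹ w * q * (cj g⁻¹ w)⁻¹ * q⁻¹ ∈ J :=
        J.mul_mem (S.normH _ hwC q hq) (J.inv_mem hq)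
      have hq' : cj g q * a = a * cj g q := back (S.le q hq).1
      have h2 : w * cj (cj g q) w⁻¹ ∈ W := W.mul_mem hw (S.W_norm _ hq' _ (W.inv_mem hw))
      have h3 : cj g⁻¹ w * q * (cj g⁻¹ w)⁻¹ * q⁻¹ = cj g⁻¹ (w * cj (cj g q) w⁻¹) := by
        simp [cj, mul_assoc]
      have ho2 : Odd (orderOf (cj g⁻¹ (w * cj (cj g q) w⁻¹))) := by
        rw [show cj g⁻¹ (w * cj (cj g q) w⁻¹) = MulAut.conj g⁻¹ (w * cj (cj g q) w⁻¹) from rfl,
          MulEquiv.orderOf_eq]
        exact S.W_odd _ h2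
      have h4 := S.J_odd h1 (h3 ▸ ho2)
      rwa [mul_inv_eq_one, mul_inv_eq_iff_eq_mul] at h4
    have hwI : InC z a (cj g⁻¹ w) := ⟨hwC, hall a S.aJ⟩
    exact cj_injective g⁻¹ ((S.odd_cent hwI ho hall).trans (by simp [cj]))
  have hcz : ∀ p, p * z = z * p → v * p = p * v := by
    intro p hp
    obtain ⟨w, hw, k, hk, ek⟩ := S.dec _ (back hp)
    rw [hW1 w hw, one_mul] at ek
    have := cj_comm (g := g⁻¹) hk.1
    rw [← ek, cj_inv_cj'] at this
    exact this.symm
  have hvI : InC z a v := ⟨hcz z rfl, hcz a S.az⟩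
  have hvJ : v ∈ J := (S.ρ_ker v hvI).1 (Equiv.ext fun w => by
    obtain ⟨q, hq, rfl⟩ := S.π_surj w
    exact S.ρ_fix hvI hq (hcz q (S.le q hq).1))
  have hvV : InV z a v := by
    refine (S.π_zero v hvJ).1 (pol4_nondeg fun w => ?_)
    obtain ⟨q, hq, rfl⟩ := S.π_surj w
    exact (S.comm_iff hvJ hq).1 (hcz q (S.le q hq).1)
  have hv2 := cj_fix_iff.2 (hcz h hh).symm
  have h1z : cj g v = z := cj_inv_left g z
  rcases hvV with ev | ev | ev | ev
  · rw [ev] at h1z; exact S.z_ne (h1z.symm.trans (by simp [cj]))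
  · rw [ev] at h1z; exact S.a_ne_z (e.symm.trans h1z)
  · rw [ev, hha] at hv2
    exact S.z_ne (mul_eq_left.1 hv2)
  · rw [ev, cj_mul', hha, S.toMod.cj_z hh, mul_assoc, S.z_sq, mul_one] at hv2
    exact S.z_ne (left_eq_mul.1 hv2)

theorem not_az (g : G) : cj g z ≠ a * z := by
  obtain ⟨h, -, hha⟩ := S.swap
  intro e
  refine S.not_a (h⁻¹ * g) ?_
  rw [← cj_cj, e, ← hha, cj_inv_cj']

theorem fix_pair {g p : G} (hp : p * cj g z = cj g z * p) :
    cj p (cj g a) = cj g a ∨ cj p (cj g a) = cj g a * cj g z := by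
  have hp' : cj g⁻¹ p * z = z * cj g⁻¹ p := by
    have := cj_comm (g := g⁻¹) hp
    rwa [cj_inv_cj'] at this
  rcases S.fix_or _ hp' with e | e
  · left
    have e' := congrArg (cj g) e
    rwa [← cj_conj, cj_inv_left] at e'
  · right
    have e' := congrArg (cj g) e
    rwa [← cj_conj, cj_inv_left, cj_mul' g a z] at e'

theorem a_fixes {g : G} (hu : InC z a (cj g z)) (hne : cj g z ≠ z)
    (hfix : cj a (cj g a) = cj g a) (hz : cj z (cj g a) = cj g a * cj g z) : False := by
  obtain ⟨w, hw, k, hk, ek⟩ := S.dec (cj g a) (cj_fix_iff.1 hfix).symm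
  rw [ek, cj_mul', cj_fix_iff.2 hk.1.symm] at hz
  have hC : w⁻¹ * cj z w = k * cj g z * k⁻¹ := by
    rw [eq_mul_inv_iff_mul_eq, mul_assoc, hz, mul_assoc, inv_mul_cancel_left]
  have h1 := S.cap (W.mul_mem (W.inv_mem hw) (S.W_norm z S.inC_z.2 w hw))
    (hC ▸ S.inC_mul (S.inC_mul hk hu) (S.inC_inv hk))
  rw [h1, eq_comm, conj_eq_one_iff] at hC
  exact S.z_ne (cj_injective g (hC.trans (by simp [cj])))

/-- The conjugate pair is fixed. -/
theorem z_fixes {g : G} (hu : InC z a (cj g z)) (hne : cj g z ≠ z) :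
    z * cj g a = cj g a * z := by
  refine cj_fix_iff.1 ((S.fix_pair (p := z) hu.1.symm).resolve_right fun hz => ?_)
  rcases S.fix_pair (g := g) (p := a) hu.2.symm with ha | ha
  · exact S.a_fixes hu hne ha hz
  obtain ⟨h, hh, hha⟩ := S.swap
  have hhz : cj h z = z := S.toMod.cj_z hh
  have hhaz : cj h (a * z) = a := by rw [cj_mul', hha, hhz, mul_assoc, S.z_sq, mul_one]
  have uu : cj g z * cj g z = 1 := cj_self_sq S.z_sq
  have hazfix : cj (a * z) (cj g a) = cj g a := by
    rw [← cj_cj, hz, cj_mul', ha, cj_fix_iff.2 hu.2.symm, mul_assoc, uu, mul_one]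
  refine S.a_fixes (g := h * g) ?_ ?_ ?_ ?_
  · rw [← cj_cj]
    constructor
    · have := cj_comm (g := h) hu.1
      rwa [hhz] at this
    · have := cj_comm (g := h) ((Commute.mul_right (show Commute (cj g z) a from hu.2) hu.1).eq)
      rwa [hhaz] at this
  · rw [← cj_cj]
    exact fun e => hne (cj_injective h (e.trans hhz.symm))
  · have e' := congrArg (cj h) hazfix
    rw [← cj_conj, hhaz] at e'
    rwa [← cj_cj h g]
  · have e' := congrArg (cj h) hz
    rw [← cj_conj, hhz, cj_mul' h (cj g a) (cj g z)] at e'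
    rwa [← cj_cj, ← cj_cj]

theorem swapped_inC {h u : G} (hh : h * z = z * h) (hha : cj h a = a * z) (hu : InC z a u) :
    InC z a (cj h u) := by
  have hhz : cj h z = z := S.toMod.cj_z hh
  have hhaz : cj h (a * z) = a := by rw [cj_mul', hha, hhz, mul_assoc, S.z_sq, mul_one]
  constructor
  · have := cj_comm (g := h) hu.1
    rwa [hhz] at this
  · have := cj_comm (g := h) ((Commute.mul_right (show Commute u a from hu.2) hu.1).eq)
    rwa [hhaz] at this

theorem pair_inC {g : G} (hu : InC z a (cj g z)) (hne : cj g z ≠ z) : InC z a (cj g a) := by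
  have hz := S.z_fixes hu hne
  refine ⟨hz.symm, ?_⟩
  have aa : cj g a * cj g a = 1 := cj_self_sq S.a_sq
  have ua : cj g a * cj g z = cj g z * cj g a := cj_comm S.az
  rcases S.fix_or (cj g a) hz.symm with h1 | h1
  · exact cj_fix_iff.1 h1
  rcases S.fix_pair (g := g) (p := a) hu.2.symm with h2 | h2
  · exact (cj_fix_iff.1 h2).symm
  exfalso
  simp only [cj_mul', cj, inv_eq_of_mul_eq_one_right aa] at h1
  rw [cj, inv_eq_of_mul_eq_one_right S.a_sq] at h2
  refine hne ?_
  have e1 : a * cj g a * a * cj g a = cj g z := by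
    rw [h2, mul_assoc, ← ua, ← mul_assoc, aa, one_mul]
  have e2 : a * cj g a * a * cj g a = z := by
    rw [mul_assoc a, mul_assoc a]
    calc a * (cj g a * a * cj g a) = a * (a * z) := by rw [show cj g a * a * cj g a = a * z from h1]
      _ = z := by rw [← mul_assoc, S.a_sq, one_mul]
  exact e1.symm.trans e2

theorem pair_notV {g : G} (hu : InC z a (cj g z)) (hne : cj g z ≠ z) : ¬ InV z a (cj g a) := by
  rintro (e | e | e | e)
  · exact S.a_ne (cj_injective g (e.trans (by simp [cj])))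
  · exact S.not_a g⁻¹ ((congrArg (cj g⁻¹) e).symm.trans (cj_inv_cj' g a))
  · exact hne (S.fixed_a (cj_fix_iff.1 e) hu)
  · obtain ⟨h, hh, hha⟩ := S.swap
    have hi := (Commute.inv_left (show Commute h z from hh)).eq
    have hhia : cj h⁻¹ a = a * z := by
      rcases S.fix_or h⁻¹ hi with e' | e'
      · rw [← e', cj_cj, mul_inv_cancel, cj_one', e'] at hha
        exact absurd (left_eq_mul.1 hha) S.z_ne
      · exact e'
    refine hne ?_
    have h1 := S.fixed_a (g := h⁻¹ * g)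
      (cj_fix_iff.1 (by rw [← cj_cj, e, ← hha, cj_inv_cj']))
      (by rw [← cj_cj]; exact S.swapped_inC hi hhia hu)
    rw [← cj_cj] at h1
    exact cj_injective h⁻¹ (h1.trans (S.toMod.cj_z hi).symm)

theorem cent_u {g h : G} (hu : InC z a (cj g z)) (hne : cj g z ≠ z) (hh : InC z a h)
    (e : h * cj g a = cj g a * h) : h * cj g z = cj g z * h := by
  have hA := S.pair_inC hu hne
  have toI : ∀ {t : G}, t * cj g z = cj g z * t → t * cj g a = cj g a * t → InC z a (cj g⁻¹ t) := by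
    intro t t1 t2
    have e1 := cj_comm (g := g⁻¹) t1
    have e2 := cj_comm (g := g⁻¹) t2
    rw [cj_inv_cj'] at e1 e2
    exact ⟨e1, e2⟩
  have h0a : cj g⁻¹ h * a = a * cj g⁻¹ h := by
    have := cj_comm (g := g⁻¹) e
    rwa [cj_inv_cj'] at this
  obtain ⟨w, hw, k, hk, ek⟩ := S.dec _ h0a
  have hz1 := S.trick (toI hu.1.symm hA.1.symm) hw hk (by
    rw [← ek]; exact (cj_comm hh.1).symm)
  have ha1 := S.trick (toI hu.2.symm hA.2.symm) hw hk (by
    rw [← ek]; exact (cj_comm hh.2).symm)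
  have hxI : InC z a (cj g w) := by
    have e1 := cj_comm (g := g) hz1.1
    have e2 := cj_comm (g := g) ha1.1
    rw [cj_inv_left] at e1 e2
    exact ⟨e1.symm, e2.symm⟩
  have hxo : Odd (orderOf (cj g w)) := by
    rw [show cj g w = MulAut.conj g w from rfl, MulEquiv.orderOf_eq]
    exact S.W_odd w hw
  have hx1 : cj g w = 1 := by
    refine S.thompson hA (cj_self_sq S.a_sq) hxI (cj_comm (S.W_comm w hw)) hxo fun p hp hpc => ?_
    have hp0 : cj g⁻¹ p * a = a * cj g⁻¹ p := by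
      have := cj_comm (g := g⁻¹) hpc.symm
      rwa [cj_inv_cj'] at this
    have h1 : cj g w * p * (cj g w)⁻¹ * p⁻¹ ∈ J := J.mul_mem (S.norm _ hxI p hp) (J.inv_mem hp)
    have h2 : w * cj (cj g⁻¹ p) w⁻¹ ∈ W := W.mul_mem hw (S.W_norm _ hp0 _ (W.inv_mem hw))
    have h3 : cj g w * p * (cj g w)⁻¹ * p⁻¹ = cj g (w * cj (cj g⁻¹ p) w⁻¹) := by
      simp [cj, mul_assoc]
    have ho2 : Odd (orderOf (cj g (w * cj (cj g⁻¹ p) w⁻¹))) := by
      rw [show cj g (w * cj (cj g⁻¹ p) w⁻¹) = MulAut.conj g (w * cj (cj g⁻¹ p) w⁻¹) from rfl,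
        MulEquiv.orderOf_eq]
      exact S.W_odd _ h2
    have h4 := S.J_odd h1 (h3 ▸ ho2)
    rwa [mul_inv_eq_one, mul_inv_eq_iff_eq_mul] at h4
  have hw1 : w = 1 := cj_injective g (hx1.trans (by simp [cj]))
  rw [hw1, one_mul] at ek
  have := cj_comm (g := g) hk.1
  rwa [← ek, cj_inv_left] at this

/-- No conjugate of `z` other than itself centralises the four-group. -/
theorem inner {g : G} (hu : InC z a (cj g z)) : cj g z = z := by
  by_contra hne
  obtain ⟨h, hh, hha⟩ := S.swap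
  have hgh : cj (g * h) z = cj g z := by rw [← cj_cj, S.toMod.cj_z hh]
  have hb : cj (g * h) a = cj g a * cj g z := by rw [← cj_cj, hha, cj_mul']
  have hu' : InC z a (cj (g * h) z) := hgh.symm ▸ hu
  have hne' : cj (g * h) z ≠ z := hgh.symm ▸ hne
  have hA := S.pair_inC hu hne
  have hB := S.pair_inC hu' hne'
  have aa : cj g a * cj g a = 1 := cj_self_sq S.a_sq
  have hprod : cj g a * cj (g * h) a = cj g z := by rw [hb, ← mul_assoc, aa, one_mul]
  refine S.no_twin (c := cj g a) (d := cj (g * h) a)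
    ⟨hA, hB, aa, cj_self_sq S.a_sq, ?_, S.pair_notV hu hne, S.pair_notV hu' hne', ?_,
      fun k hk e => ?_, fun k hk e => ?_, fun p hp q hq e1 e2 => ?_⟩
  · rw [hb, mul_assoc (cj g a) (cj g z), ← cj_comm (g := g) S.az]
  · rw [hprod]
    rintro (e | e | e | e)
    · exact S.z_ne (cj_injective g (e.trans (by simp [cj])))
    · exact hne e
    · exact S.not_a g e
    · exact S.not_az g e
  · have := S.cent_u hu hne hk e
    rw [hb]
    exact (Commute.mul_right (show Commute k (cj g a) from e) this).eq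
  · have h1 := S.cent_u hu' hne' hk e
    rw [hgh] at h1
    have he : cj g a = cj (g * h) a * cj g z := by
      rw [hb, mul_assoc, cj_self_sq S.z_sq, mul_one]
    rw [he]
    exact (Commute.mul_right (show Commute k (cj (g * h) a) from e) h1).eq
  · rw [hprod] at e1 e2
    rcases S.fix_pair (g := g) (p := p) e1 with h1 | h1
    · exact Or.inl (cj_fix_iff.1 h1)
    rcases S.fix_pair (g := g) (p := q) e2 with h2 | h2
    · exact Or.inr (Or.inl (cj_fix_iff.1 h2))
    refine Or.inr (Or.inr (cj_fix_iff.1 ?_))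
    rw [← cj_cj, h2, cj_mul', h1, cj_fix_iff.2 e1, mul_assoc, cj_self_sq S.z_sq, mul_one]

/-- No conjugate of `z` moves `a`. -/
theorem outer {g : G} (hu : cj g z * z = z * cj g z) (ha : cj (cj g z) a = a * z) : False := by
  set u := cj g z with hudef
  have uu : u * u = 1 := cj_self_sq S.z_sq
  have huI : ¬ InC z a u := fun h => S.z_ne (left_eq_mul.1 ((cj_fix_iff.2 h.2).symm.trans ha))
  have hz : cj z (cj g a) = cj g a * u := by
    refine (S.fix_pair (g := g) (p := z) hu.symm).resolve_left fun h => ?_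
    have h1 : cj g⁻¹ z * z = z * cj g⁻¹ z := by
      have := cj_comm (g := g⁻¹) hu.symm
      rwa [hudef, cj_inv_cj'] at this
    have h2 : cj g⁻¹ z * a = a * cj g⁻¹ z := by
      have := cj_comm (g := g⁻¹) (cj_fix_iff.1 h)
      rwa [cj_inv_cj'] at this
    have h3 := S.inner (g := g⁻¹) ⟨h1, h2⟩
    have h4 : u = z := by rw [hudef]; exact (congrArg (cj g) h3.symm).trans (cj_inv_left g z)
    exact huI (h4 ▸ S.inC_z)
  have aa : cj g a * cj g a = 1 := cj_self_sq S.a_sq
  have hau : cj g a * u = u * cj g a := cj_comm S.az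
  have za : z * cj g a * z = cj g a * u := by
    rw [cj, inv_eq_of_mul_eq_one_right S.z_sq] at hz
    exact hz
  have ua : u * a * u = a * z := by
    rw [cj, inv_eq_of_mul_eq_one_right uu] at ha
    exact ha
  have e_au : cj a u = u * z := by
    rw [cj, inv_eq_of_mul_eq_one_right S.a_sq]
    calc a * u * a = u * u * a * u * a := by rw [uu, one_mul]
      _ = u * (u * a * u) * a := by rw [show u * u * a * u * a = u * (u * a * u) * a by group]
      _ = u * z * (a * a) := by rw [ua, S.az]; group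
      _ = u * z := by rw [S.a_sq, mul_one]
  have e_az : cj a z = z := cj_fix_iff.2 S.az
  have e_bz : cj (cj g a) z = z * u := by
    rw [cj, inv_eq_of_mul_eq_one_right aa]
    calc cj g a * z * cj g a = z * (z * cj g a * z) * cj g a := by
          rw [show z * (z * cj g a * z) = z * z * (cj g a * z) by group, S.z_sq, one_mul]
      _ = z * (cj g a * u) * cj g a := by rw [za]
      _ = z * (cj g a * (u * cj g a)) := by group
      _ = z * (cj g a * (cj g a * u)) := by rw [hau]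
      _ = z * (cj g a * cj g a) * u := by group
      _ = z * u := by rw [aa, mul_one]
  have e_bu : cj (cj g a) u = u := cj_fix_iff.2 hau
  set t := a * cj g a with ht
  have tz : cj t z = u := by
    rw [ht, ← cj_cj, e_bz, cj_mul', e_az, e_au, ← mul_assoc, ← hu, mul_assoc, S.z_sq, mul_one]
  have tu : cj t u = u * z := by rw [ht, ← cj_cj, e_bu, e_au]
  have tuz : cj t (u * z) = z := by
    rw [cj_mul', tu, tz, mul_assoc, ← hu, ← mul_assoc, uu, one_mul]
  -- the centraliser in the core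
  have hkill : ∀ k ∈ J, k * cj g a = cj g a * k →
      (∀ x : G, cj x z = u * k ∨ cj x z = u * z * k → k = 1) := by
    intro k hk hka x hx
    have tk : cj t k = k := by
      rw [ht, ← cj_cj, cj_fix_iff.2 hka.symm, cj_fix_iff.2 (S.le k hk).2.symm]
    have hzk : ∀ y : G, cj y z = z * k → k = 1 := fun y hy => by
      have := S.inner (g := y) (hy ▸ S.le _ (J.mul_mem S.zJ hk))
      rw [hy] at this
      exact mul_eq_left.1 this
    rcases hx with hx | hx
    · refine hzk (t⁻¹ * x) ?_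
      rw [← cj_cj, hx, cj_mul']
      conv_lhs => rw [← tz, ← tk]
      rw [cj_inv_cj', cj_inv_cj']
    · refine hzk (t * x) ?_
      rw [← cj_cj, hx, cj_mul', tuz, tk]
  -- the commutators with the core
  have hswap : ∀ p : G, p ∈ J → p * u = u * p →
      cj p (cj g a) = cj g a ∨ cj p (cj g a) = cj g a * u := fun p _ hp => S.fix_pair (g := g) hp
  have hyJ : ∀ x ∈ J, cj u x ∈ J := fun x hx => S.normH u hu x hx
  have hout : ∀ x ∈ J, u * x * u * x⁻¹ * (u * x * u * x⁻¹) = 1 →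
      u * x * u * x⁻¹ = 1 ∨ u * x * u * x⁻¹ = z := by
    intro x hx hy2
    set y := u * x * u * x⁻¹ with hy
    have hyu : y * u = u * y := by
      have hinv : u * y * u = y⁻¹ := by
        rw [hy]; simp only [mul_inv_rev, inv_inv, inv_eq_of_mul_eq_one_right uu]
        calc u * (u * x * u * x⁻¹) * u = u * u * x * u * x⁻¹ * u := by group
          _ = _ := by rw [uu]; group
      rw [inv_eq_of_mul_eq_one_right hy2] at hinv
      calc y * u = u * y * u * u := by rw [hinv]
        _ = u * y := by rw [mul_assoc, uu, mul_one]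
    have hyJ' : y ∈ J := by
      have := J.mul_mem (hyJ x hx) (J.inv_mem hx)
      rwa [cj, inv_eq_of_mul_eq_one_right uu] at this
    have hconj : cj (x * g) z = u * y := by
      rw [← cj_cj, ← hudef, hy, cj]
      simp only [← mul_assoc, uu, one_mul]
    rcases hswap y hyJ' hyu with e | e
    · exact Or.inl (hkill y hyJ' (cj_fix_iff.1 e) (x * g) (Or.inl hconj))
    · right
      have hyz : cj (y * z) (cj g a) = cj g a := by
        rw [← cj_cj, hz, cj_mul', e, cj_fix_iff.2 hyu, mul_assoc, uu, mul_one]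
      have h1 := hkill (y * z) (J.mul_mem hyJ' S.zJ) (cj_fix_iff.1 hyz) (x * g) (Or.inr (by
        rw [hconj, show y * z = z * y from (S.le y hyJ').1, mul_assoc u z, ← mul_assoc z z, S.z_sq,
          one_mul]))
      rw [mul_eq_one_iff_eq_inv, inv_eq_of_mul_eq_one_right S.z_sq] at h1
      exact h1
  let σ : G → W4 := fun p => S.π (cj u p) + S.π p
  have σ_mul : ∀ p ∈ J, ∀ q ∈ J, σ (p * q) = σ p + σ q := fun p hp q hq => by
    show S.π (cj u (p * q)) + S.π (p * q) = S.π (cj u p) + S.π p + (S.π (cj u q) + S.π q)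
    rw [cj_mul', S.π_mul _ (hyJ p hp) _ (hyJ q hq), S.π_mul p hp q hq]
    abel
  have σ_inv : ∀ p ∈ J, σ p⁻¹ = σ p := fun p hp => by
    show S.π (cj u p⁻¹) + S.π p⁻¹ = _
    rw [show cj u p⁻¹ = (cj u p)⁻¹ by simp [cj, mul_assoc], S.π_inv (hyJ p hp), S.π_inv hp]
  have pol_u : ∀ p ∈ J, ∀ q ∈ J, pol4 (S.π (cj u p)) (S.π (cj u q)) = pol4 (S.π p) (S.π q) := by
    intro p hp q hq
    have h1 := S.comm _ (hyJ p hp) _ (hyJ q hq)
    have h2 := congrArg (cj u) (S.comm p hp q hq)
    rw [cj_mul', cj_mul', cj_mul', h1, mul_right_inj] at h2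
    have hzp : ∀ e : ZMod 2, cj u (zp z e) = zp z e := fun e => by
      unfold zp; split_ifs <;> simp [cj, hu, uu, mul_assoc, inv_eq_of_mul_eq_one_right uu]
    rw [hzp] at h2
    exact H92.ExtraForm.zp_inj S.z_ne h2
  have uuc : ∀ p : G, cj u (cj u p) = p := fun p => by rw [cj_cj, uu, cj_one']
  have σ_two : ∀ p ∈ J, ∀ q ∈ J, pol4 (σ p) (σ q) = 0 := by
    intro p hp q hq
    show pol4 (_ + _) (_ + _) = _
    rw [pol4_add_left, pol4_add_right', pol4_add_right', pol_u p hp q hq,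
      ← pol_u p hp (cj u q) (hyJ q hq), uuc]
    generalize pol4 (S.π p) (S.π q) = x
    generalize pol4 (S.π (cj u p)) (S.π q) = y
    revert x y
    decide
  have σ_sing : ∀ p ∈ J, wt4 (σ p) = 0 → σ p = 0 := by
    intro p hp hw
    have hyJ' : u * p * u * p⁻¹ ∈ J := by
      have := J.mul_mem (hyJ p hp) (J.inv_mem hp)
      rwa [cj, inv_eq_of_mul_eq_one_right uu] at this
    have hπ : S.π (u * p * u * p⁻¹) = σ p := by
      show _ = S.π (cj u p) + S.π p
      rw [← S.π_inv hp, ← S.π_mul _ (hyJ p hp) _ (J.inv_mem hp), cj, inv_eq_of_mul_eq_one_right uu]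
    have h2 : u * p * u * p⁻¹ * (u * p * u * p⁻¹) = 1 := by
      rw [S.sq _ hyJ', hπ, hw]; simp [zp]
    rw [← hπ]
    exact (S.π_zero _ hyJ').2 ((hout p hp h2).imp id Or.inl)
  have σ_eq : ∀ p ∈ J, ∀ q ∈ J, σ p ≠ 0 → σ q ≠ 0 → σ (p⁻¹ * q) = 0 := by
    intro p hp q hq h1 h2
    rw [σ_mul _ (J.inv_mem hp) _ hq, σ_inv p hp]
    have hw : wt4 (σ p + σ q) = 0 := by
      have := σ_two p hp q hq
      rw [pol4, zmod2_one _ fun e => h1 (σ_sing p hp e),
        zmod2_one _ fun e => h2 (σ_sing q hq e)] at this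
      revert this
      generalize wt4 (σ p + σ q) = x
      revert x
      decide
    rw [← σ_inv p hp, ← σ_mul _ (J.inv_mem hp) _ hq] at hw ⊢
    exact σ_sing _ (J.mul_mem (J.inv_mem hp) hq) hw
  have hf : ∀ p ∈ J, σ p = 0 → cj u p = p ∨ cj u p = p * z := by
    intro p hp hσ
    have hf : InV z a (p⁻¹ * cj u p) :=
      S.π_eq hp (hyJ p hp) (vec_eq_of_add (by rw [add_comm]; exact hσ))
    have e : cj u p = p * (p⁻¹ * cj u p) := (mul_inv_cancel_left p _).symm
    rcases hf with h1 | h1 | h1 | h1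
    · left; rw [e, h1, mul_one]
    · right; rw [e, h1]
    · exfalso
      have e2 : cj u p = p * a := by rw [e, h1]
      have h2 := uuc p
      rw [e2, cj_mul' u p a, e2, ha, mul_assoc p a (a * z), ← mul_assoc a a z, S.a_sq, one_mul,
        mul_eq_left] at h2
      exact S.z_ne h2
    · exfalso
      have e2 : cj u p = p * (a * z) := by rw [e, h1]
      have h2 := uuc p
      rw [e2, cj_mul' u p (a * z), e2, cj_mul' u a z, ha, S.toMod.cj_z hu, mul_assoc a z z, S.z_sq,
        mul_one, mul_assoc p (a * z) a, mul_assoc a z a, ← S.az, ← mul_assoc a a z, S.a_sq, one_mul,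
        mul_eq_left] at h2
      exact S.z_ne h2
  classical
  let r2 : G := if h : ∃ p ∈ J, σ p ≠ 0 then h.choose else 1
  let r1 : G := if h : ∃ p ∈ J, σ p = 0 ∧ cj u p ≠ p then h.choose else 1
  have hr2J : r2 ∈ J := by
    simp only [r2]; split_ifs with h
    · exact h.choose_spec.1
    · exact J.one_mem
  have hr1J : r1 ∈ J := by
    simp only [r1]; split_ifs with h
    · exact h.choose_spec.1
    · exact J.one_mem
  have step2 : ∀ x ∈ J, σ x = 0 ∨ σ (r2⁻¹ * x) = 0 := by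
    intro x hx
    by_cases h0 : σ x = 0
    · exact Or.inl h0
    have hex : ∃ p ∈ J, σ p ≠ 0 := ⟨x, hx, h0⟩
    simp only [r2, dif_pos hex]
    exact Or.inr (σ_eq _ hex.choose_spec.1 x hx hex.choose_spec.2 h0)
  have step1 : ∀ x ∈ J, σ x = 0 → x * u = u * x ∨ r1⁻¹ * x * u = u * (r1⁻¹ * x) := by
    intro x hx h0
    by_cases h1 : cj u x = x
    · exact Or.inl (cj_fix_iff.1 h1).symm
    have hex : ∃ p ∈ J, σ p = 0 ∧ cj u p ≠ p := ⟨x, hx, h0, h1⟩
    simp only [r1, dif_pos hex]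
    obtain ⟨hpJ, hp0, hpne⟩ := hex.choose_spec
    refine Or.inr (cj_fix_iff.1 ?_).symm
    rw [cj_mul', show cj u hex.choose⁻¹ = (cj u hex.choose)⁻¹ by simp [cj, mul_assoc],
      (hf _ hpJ hp0).resolve_left hpne, (hf x hx h0).resolve_left h1, mul_inv_rev,
      show x * z = z * x from (S.le x hx).1, mul_assoc, ← mul_assoc _ z x]
    rw [show hex.choose⁻¹ * z = z * hex.choose⁻¹ from
      (S.le _ (J.inv_mem hpJ)).1, mul_assoc z, ← mul_assoc, inv_eq_of_mul_eq_one_right S.z_sq,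
      S.z_sq, one_mul]
  obtain ⟨p, hp, q, hq, hpu, hqu, hpq⟩ := S.toMod.exists_noncomm (fun x => x * u = u * x)
    ![r1, r2, r2 * r1] (fun i => by fin_cases i <;> simp [hr1J, hr2J, J.mul_mem]) (fun x hx => by
      rcases step2 x hx with h | h
      · rcases step1 x hx h with h' | h'
        · exact Or.inl h'
        · exact Or.inr ⟨0, h'⟩
      · rcases step1 _ (J.mul_mem (J.inv_mem hr2J) hx) h with h' | h'
        · exact Or.inr ⟨1, h'⟩
        · refine Or.inr ⟨2, ?_⟩
          show (r2 * r1)⁻¹ * x * u = u * ((r2 * r1)⁻¹ * x)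
          rw [mul_inv_rev, mul_assoc r1⁻¹ r2⁻¹ x]
          exact h')
  have hcomm : q * p = p * q * z := by
    rw [S.comm p hp q hq, hpq]; simp [zp]
  have h1 := congrArg (fun c => cj c (cj g a)) hcomm
  simp only [← cj_cj, hz] at h1
  rw [cj_mul' q (cj g a) u, cj_fix_iff.2 hqu, cj_mul' p _ u, cj_fix_iff.2 hpu] at h1
  have hun : u ≠ 1 := fun e => S.z_ne (cj_injective g (e.trans (by simp [cj])))
  have hcan : ∀ b : G, b * u * u = b := fun b => by rw [mul_assoc, uu, mul_one]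
  rcases hswap p hp hpu with ep | ep <;> rcases hswap q hq hqu with eq | eq <;>
    simp only [ep, eq, cj_mul', cj_fix_iff.2 hpu, cj_fix_iff.2 hqu, hcan] at h1 <;>
    first
      | exact hun (left_eq_mul.1 h1)
      | exact hun (mul_eq_left.1 h1.symm)
      | exact hun (mul_eq_left.1 h1)

/-- `z` is isolated. -/
theorem isolated (g : G) (hg : g * z * g⁻¹ * z = z * (g * z * g⁻¹)) : g * z * g⁻¹ = z := by
  rcases S.fix_or (cj g z) hg with h | h
  · exact S.inner ⟨hg, cj_fix_iff.1 h⟩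
  · exact (S.outer hg h).elim

end Swapped

end Cfsg.Agent.H2.Fi22z
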