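import Cfsg.Agent.H2.Fi22z.ToMod
import Cfsg.Agent.H2.Fi22z.Iso
import Cfsg.Agent.H49.UChar.Isolated

/-!
The degenerate branch when some element of the centraliser of `z` moves `a`.
-/

set_option autoImplicit false
set_option linter.style.haveILetI false
set_option maxRecDepth 20000
set_option linter.unusedSectionVars false

namespace Cfsg.Agent.H2.Fi22z

open Cfsg Subgroup
open Cfsg.Agent.H49.USix Cfsg.Agent.H49.UChar
open H76.LocallyS3 (cj cj_cj cj_injective)

namespace Base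

variable {G : Type*} [Group G] [Finite G] {z a : G} {J E : Subgroup G} (B : Base z a J E)
include B

/-- The odd complement over the odd core of the quotient. -/
theorem exists_W (hX : centralizer ({B.zQ} : Set (QA a)) ⊔ Cfsg.oddCore (QA a) = ⊤) :
    ∃ W : Subgroup G, (∀ w ∈ W, w * a = a * w) ∧
      (∀ h : G, h * a = a * h → ∀ w ∈ W, cj h w ∈ W) ∧ (∀ w ∈ W, Odd (orderOf w)) ∧
      ∀ h : G, h * a = a * h → ∃ w ∈ W, ∃ k, InC z a k ∧ h = w * k := by
  classical
  let X := centralizer ({a} : Set G)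
  have hca : ∀ x : ↥X, (x : G) * a = a * x := fun x => mem_centralizer_singleton_iff.1 x.2
  let π : ↥X →* QA a := QuotientGroup.mk' _
  let N : Subgroup ↥X := (Cfsg.oddCore (QA a)).comap π
  let A : Subgroup ↥N := ((zpowers a).subgroupOf X).subgroupOf N
  have hm : Odd (Nat.card ↥(Cfsg.oddCore (QA a))) := Cores.odd_card_oddCore (G := QA a)
  set m := Nat.card ↥(Cfsg.oddCore (QA a)) with hmdef
  let aX : ↥X := ⟨a, mem_centralizer_singleton_iff.2 rfl⟩
  have hA : ∀ x : ↥N, x ∈ A ↔ ((x : ↥X) : G) = 1 ∨ ((x : ↥X) : G) = a := fun x => by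
    show (x : ↥X) ∈ (zpowers a).subgroupOf X ↔ _
    rw [mem_subgroupOf, mem_zpowers_invol B.a_sq]
  have haN : aX ∈ N := by
    show π aX ∈ Cfsg.oddCore (QA a)
    rw [show π aX = 1 from (QuotientGroup.eq_one_iff _).2 (mem_subgroupOf.2 (mem_zpowers a))]
    exact one_mem _
  have hcardA : Nat.card ↥A = 2 := by
    rw [Nat.card_eq_two_iff' (1 : ↥A)]
    refine ⟨⟨⟨aX, haN⟩, (hA _).2 (Or.inr rfl)⟩, fun e => B.a_ne
      (congrArg (fun x : ↥A => (((x : ↥N) : ↥X) : G)) e), fun y hy => ?_⟩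
    rcases (hA y).1 y.2 with e | e
    · exact absurd (Subtype.ext (Subtype.ext (Subtype.ext e))) hy
    · exact Subtype.ext (Subtype.ext (Subtype.ext e))
  let f : ↥N →* ↥(Cfsg.oddCore (QA a)) := (π.comp N.subtype).codRestrict _ fun x => x.2
  have hf : Function.Surjective f := fun y => by
    obtain ⟨x, hx⟩ := QuotientGroup.mk'_surjective _ (y : QA a)
    exact ⟨⟨x, show π x ∈ _ from hx ▸ y.2⟩, Subtype.ext hx⟩
  have hker : f.ker = A := by
    ext x
    rw [MonoidHom.mem_ker, Subtype.ext_iff]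
    exact (QuotientGroup.eq_one_iff _).trans Iff.rfl
  have hAn : A.Normal := hker ▸ MonoidHom.normal_ker f
  have hindex : A.index = m := by
    rw [← hker, index_ker, MonoidHom.range_eq_top.2 hf, card_top, hmdef]
  obtain ⟨K, hK⟩ := exists_right_complement'_of_coprime (N := A)
    (by rw [hcardA, hindex]; exact Nat.coprime_two_left.2 hm)
  have hKc : Nat.card ↥K = m := by
    have h1 := hK.card_mul
    rw [← card_mul_index A, hindex] at h1
    exact Nat.eq_of_mul_eq_mul_left Nat.card_pos h1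
  have hchar : ∀ x : ↥N, x ^ m = 1 → x ∈ K := by
    intro x hx
    obtain ⟨⟨⟨α, hα⟩, ⟨k, hk⟩⟩, rfl⟩ := hK.2 x
    simp only [] at hx ⊢
    rcases (hA α).1 hα with e | e
    · rw [show α = 1 from Subtype.ext (Subtype.ext e), one_mul]; exact hk
    · exfalso
      have hc : Commute α k := Subtype.ext (Subtype.ext (by
        show ((α : ↥X) : G) * (k : ↥X) = (k : ↥X) * (α : ↥X)
        rw [e]; exact (hca _).symm))
      obtain ⟨j, hj⟩ := hm
      rw [hc.mul_pow, show k ^ m = 1 from hKc ▸ congrArg Subtype.val (pow_card_eq_one' (x := (⟨k, hk⟩ : ↥K))),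
        mul_one, hj, pow_succ, pow_mul] at hx
      have hα2 : α ^ 2 = 1 := Subtype.ext (Subtype.ext (by
        show ((α : ↥X) : G) ^ 2 = 1
        rw [e, pow_two, B.a_sq]))
      rw [hα2, one_pow, one_mul] at hx
      exact B.a_ne (by rw [← e, hx]; rfl)
  let W : Subgroup G := (K.map N.subtype).map X.subtype
  have hW : ∀ w, w ∈ W ↔ ∃ x : ↥N, x ∈ K ∧ ((x : ↥X) : G) = w := fun w =>
    ⟨by rintro ⟨_, ⟨x, hx, rfl⟩, rfl⟩; exact ⟨x, hx, rfl⟩,
      by rintro ⟨x, hx, rfl⟩; exact ⟨_, ⟨x, hx, rfl⟩, rfl⟩⟩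
  have hpow : ∀ x : ↥N, x ∈ K → x ^ m = 1 := fun x hx =>
    hKc ▸ congrArg Subtype.val (pow_card_eq_one' (x := (⟨x, hx⟩ : ↥K)))
  have hWn : ∀ h : G, h * a = a * h → ∀ w ∈ W, cj h w ∈ W := by
    intro h hh w hw
    obtain ⟨x, hx, rfl⟩ := (hW w).1 hw
    let hX : ↥X := ⟨h, mem_centralizer_singleton_iff.2 hh⟩
    have hNn : N.Normal := Subgroup.Normal.comap inferInstance π
    refine (hW _).2 ⟨⟨hX * x * hX⁻¹, hNn.conj_mem _ x.2 hX⟩, hchar _ (Subtype.ext ?_), rfl⟩
    rw [SubgroupClass.coe_pow]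
    show (hX * (x : ↥X) * hX⁻¹) ^ m = 1
    rw [conj_pow, show (x : ↥X) ^ m = 1 from congrArg Subtype.val (hpow x hx), mul_one, mul_inv_cancel]
  refine ⟨W, fun w hw => ?_, hWn, fun w hw => ?_, fun h hh => ?_⟩
  · obtain ⟨x, -, rfl⟩ := (hW w).1 hw
    exact hca _
  · obtain ⟨x, hx, rfl⟩ := (hW w).1 hw
    exact hm.of_dvd_nat (orderOf_dvd_of_pow_eq_one
      (congrArg (fun y : ↥N => ((y : ↥X) : G)) (hpow x hx)))
  · let hX' : ↥X := ⟨h, mem_centralizer_singleton_iff.2 hh⟩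
    obtain ⟨c, hc, o, ho, e⟩ := (mem_sup_of_normal_right.1
      (show π hX' ∈ centralizer ({B.zQ} : Set (QA a)) ⊔ Cfsg.oddCore (QA a) from hX.symm ▸ mem_top _))
    obtain ⟨k, hk⟩ := B.toCent_surj ⟨c, hc⟩
    obtain ⟨n, hn⟩ := hf ⟨o, ho⟩
    obtain ⟨⟨⟨α, hα⟩, ⟨w, hw⟩⟩, rfl⟩ := hK.2 n
    simp only [] at hn
    have hk0 := mem_cent2.1 k.2
    let kX : ↥X := ⟨k, mem_centralizer_singleton_iff.2 hk0.2⟩
    have hα1 : π (α : ↥X) = 1 := by
      refine (QuotientGroup.eq_one_iff _).2 ?_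
      exact hα
    have e1 : π hX' = π (kX * (w : ↥X)) := by
      rw [← e, map_mul]
      congr 1
      · exact (congrArg Subtype.val hk).symm
      · have := congrArg Subtype.val hn
        rw [show (o : QA a) = π ((α * w : ↥N) : ↥X) from this.symm, coe_mul, map_mul, hα1, one_mul]
    have hwW : ((w : ↥X) : G) ∈ W := (hW _).2 ⟨w, hw, rfl⟩
    have h2 := (mk2_eq B.a_sq (hx := (hca (kX * (w : ↥X)))) (hy := hh)).1 e1.symm
    refine ⟨cj (k : G) ((w : ↥X) : G), hWn _ hk0.2 _ hwW, ?_⟩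
    rcases h2 with h2 | h2
    · exact ⟨k, hk0, by rw [h2, coe_mul]; simp [cj, kX, mul_assoc]⟩
    · refine ⟨k * a, ⟨(Commute.mul_left (show Commute (k : G) z from hk0.1) B.az).eq,
        (Commute.mul_left (show Commute (k : G) a from hk0.2) (Commute.refl a)).eq⟩, ?_⟩
      rw [h2, coe_mul]; simp [cj, kX, mul_assoc]

/-- The degenerate branch with a swap: `z` is isolated. -/
theorem degenerate (M : Mod z a J) (hswap : ∃ h : G, h * z = z * h ∧ cj h a = a * z)
    (hX : centralizer ({B.zQ} : Set (QA a)) ⊔ Cfsg.oddCore (QA a) = ⊤) :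
    centralizer ({z} : Set G) ⊔ Cfsg.oddCore G = ⊤ := by
  obtain ⟨W, h1, h2, h3, h4⟩ := B.exists_W hX
  let S : Swapped z a J W :=
    { M with
      a_ne := B.a_ne, a_ne_z := B.a_ne_z, fix_or := fun h hh => B.fix_or hh
      normH := B.normH, swap := hswap
      W_comm := h1, W_norm := h2, W_odd := h3, dec := h4 }
  exact sup_oddCore_top B.z_sq B.z_ne S.isolated

end Base

end Cfsg.Agent.H2.Fi22z
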