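import Cfsg.Agent.H49.UChar.Twisted
import Cfsg.Agent.H49.UChar.Rep
import Cfsg.Agent.H2.Fi22z.Defs

/-!
The centraliser of a pair of commuting involutions `z`, `a` whose common core modulo `⟨z, a⟩` is the
natural four-dimensional unitary module over the field with four elements, and the lifting of the
involutions commuting with a fixed-point-free element of order three.
-/

set_option autoImplicit false
set_option linter.style.haveILetI false
set_option maxRecDepth 20000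
set_option linter.unusedSectionVars false

namespace Cfsg.Agent.H2.Fi22z

open Cfsg
open Cfsg.Agent.H49.USix Cfsg.Agent.H49.UChar
open Cfsg.Agent.Unitary (ap)
open Cfsg.Agent.H41.SUSix (K4 ω₄)
open Cfsg.Agent.H92.ExtraForm (zp)
open H76.LocallyS3 (cj cj_cj cj_injective)

/-- The exponents of a torus element without fixed vectors. -/
def yT : T3 := ![1, 1, 2]

/-- The common centraliser acting on the core modulo the four-group. -/
structure Mod {G : Type*} [Group G] (z a : G) (J : Subgroup G) where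
  z_sq : z * z = 1
  a_sq : a * a = 1
  az : a * z = z * a
  z_ne : z ≠ 1
  zJ : z ∈ J
  aJ : a ∈ J
  le : ∀ q ∈ J, InC z a q
  norm : ∀ h : G, InC z a h → ∀ q ∈ J, cj h q ∈ J
  π : G → W4
  π_mul : ∀ p ∈ J, ∀ q ∈ J, π (p * q) = π p + π q
  π_surj : ∀ v, ∃ q ∈ J, π q = v
  π_zero : ∀ q ∈ J, π q = 0 ↔ InV z a q
  comm : ∀ q ∈ J, ∀ r ∈ J, r * q = q * r * zp z (pol4 (π q) (π r))
  sq : ∀ q ∈ J, q * q = zp z (wt4 (π q))
  ρ : G → Equiv.Perm W4
  ρ_mul : ∀ c d : G, InC z a c → InC z a d → ρ (c * d) = ρ c * ρ d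
  ρ_π : ∀ c : G, InC z a c → ∀ q ∈ J, π (cj c q) = ρ c (π q)
  ρ_ker : ∀ c : G, InC z a c → (ρ c = 1 ↔ c ∈ J)
  ρ_iso : ∀ c : G, InC z a c → Iso (ρ c)
  ρ_surj : ∀ g : ↥(Cfsg.SU 4 K4 2), ∃ c : G, InC z a c ∧ ∀ w, ρ c w = ap g w
  cls : ∀ c : G, InC z a c → c * c = 1 →
    c ∈ J ∨ (∃ k, ρ c = tp k) ∨ ∃ k l, Ort k l ∧ k ≠ l ∧ ρ c = tp k * tp l

theorem pol4_add_right' (u v w : W4) : pol4 u (v + w) = pol4 u v + pol4 u w := by
  rw [pol4_comm, pol4_add_left, pol4_comm v, pol4_comm w]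

theorem pol4_nondeg {u : W4} (h : ∀ w, pol4 u w = 0) : u = 0 := by
  refine hh_nondeg fun w => hh_zero_symm.1 (hh_zero_of_pol fun c => ?_)
  rw [pol4_comm]
  exact h (c • w)

theorem zmod2_cases : ∀ t : ZMod 2, t = 0 ∨ t = 1 := by decide

theorem zmod2_one : ∀ t : ZMod 2, t ≠ 0 → t = 1 := by decide

/-! ### The element without fixed vectors -/

theorem y_fix {w : W4} (h : ap (dg yT) w = w) : w = 0 := by
  funext i
  have e := congrFun h i
  rw [ap_dg] at e
  have key : ∀ (i : Fin 4) (x : K4), wp (ext4 yT i) * x = x → x = 0 := by decide +kernel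
  exact key i _ e

theorem y_pv₀ : ap (dg yT) (pv i₀) = ω₄ • pv i₀ := by
  funext i
  rw [ap_dg, Pi.smul_apply, smul_eq_mul]
  revert i
  decide +kernel

theorem y_pv₁ : ap (dg yT) (pv j₀) = (ω₄ * ω₄) • pv j₀ := by
  funext i
  rw [ap_dg, Pi.smul_apply, smul_eq_mul]
  revert i
  decide +kernel

theorem base_ne : i₀ ≠ j₀ := by decide

namespace Mod

variable {G : Type*} [Group G] [Finite G] {z a : G} {J : Subgroup G} (M : Mod z a J)
include M

theorem inC_one : InC z a (1 : G) := by simp [InC]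

theorem inC_mul {c d : G} (hc : InC z a c) (hd : InC z a d) : InC z a (c * d) :=
  ⟨(Commute.mul_left (show Commute c z from hc.1) hd.1).eq,
    (Commute.mul_left (show Commute c a from hc.2) hd.2).eq⟩

theorem inC_inv {c : G} (hc : InC z a c) : InC z a c⁻¹ :=
  ⟨(Commute.inv_left (show Commute c z from hc.1)).eq,
    (Commute.inv_left (show Commute c a from hc.2)).eq⟩

theorem inC_cj {h c : G} (hh' : InC z a h) (hc : InC z a c) : InC z a (cj h c) :=
  M.inC_mul (M.inC_mul hh' hc) (M.inC_inv hh')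

theorem inC_pow {c : G} (hc : InC z a c) (n : ℕ) : InC z a (c ^ n) :=
  ⟨((show Commute c z from hc.1).pow_left n).eq, ((show Commute c a from hc.2).pow_left n).eq⟩

theorem V_mem {v : G} (hv : InV z a v) : v ∈ J := by
  rcases hv with rfl | rfl | rfl | rfl
  exacts [J.one_mem, M.zJ, M.aJ, J.mul_mem M.aJ M.zJ]

theorem V_comm {v h : G} (hv : InV z a v) (hh' : InC z a h) : h * v = v * h := by
  rcases hv with rfl | rfl | rfl | rfl
  · simp
  · exact hh'.1
  · exact hh'.2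
  · exact (Commute.mul_right (show Commute h a from hh'.2) hh'.1).eq

theorem V_sq {v : G} (hv : InV z a v) : v * v = 1 := by
  rcases hv with rfl | rfl | rfl | rfl
  · simp
  · exact M.z_sq
  · exact M.a_sq
  · rw [mul_assoc, ← mul_assoc z, ← M.az, mul_assoc a, M.z_sq, mul_one, M.a_sq]

theorem π_one : M.π 1 = 0 := (M.π_zero 1 J.one_mem).2 (Or.inl rfl)

theorem π_inv {q : G} (hq : q ∈ J) : M.π q⁻¹ = M.π q := by
  have h := M.π_mul q⁻¹ (J.inv_mem hq) q hq
  rw [inv_mul_cancel, M.π_one] at h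
  exact vec_eq_of_add h.symm

theorem π_eq {p q : G} (hp : p ∈ J) (hq : q ∈ J) (h : M.π p = M.π q) : InV z a (p⁻¹ * q) := by
  refine (M.π_zero _ (J.mul_mem (J.inv_mem hp) hq)).1 ?_
  rw [M.π_mul _ (J.inv_mem hp) _ hq, M.π_inv hp, h, vec_add_self]

theorem π_V {v : G} (hv : InV z a v) : M.π v = 0 := (M.π_zero v (M.V_mem hv)).2 hv

theorem comm_iff {q r : G} (hq : q ∈ J) (hr : r ∈ J) :
    q * r = r * q ↔ pol4 (M.π q) (M.π r) = 0 := by
  rw [M.comm q hq r hr]
  rcases zmod2_cases (pol4 (M.π q) (M.π r)) with e | e <;> rw [e] <;> simp [zp, M.z_ne]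

theorem ρ_one : M.ρ 1 = 1 := (M.ρ_ker 1 M.inC_one).2 J.one_mem

theorem ρ_of_J {q : G} (hq : q ∈ J) : M.ρ q = 1 := (M.ρ_ker q (M.le q hq)).2 hq

theorem ρ_inv {c : G} (hc : InC z a c) : M.ρ c⁻¹ = (M.ρ c)⁻¹ := by
  refine eq_inv_of_mul_eq_one_left ?_
  rw [← M.ρ_mul _ _ (M.inC_inv hc) hc, inv_mul_cancel, M.ρ_one]

theorem ρ_cj {h c : G} (hh' : InC z a h) (hc : InC z a c) :
    M.ρ (cj h c) = M.ρ h * M.ρ c * (M.ρ h)⁻¹ := by
  rw [cj, M.ρ_mul _ _ (M.inC_mul hh' hc) (M.inC_inv hh'), M.ρ_mul _ _ hh' hc, M.ρ_inv hh']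

theorem ρ_cj_J {q c : G} (hq : q ∈ J) (hc : InC z a c) : M.ρ (cj q c) = M.ρ c := by
  rw [M.ρ_cj (M.le q hq) hc, M.ρ_of_J hq, one_mul, inv_one, mul_one]

theorem ρ_pow {c : G} (hc : InC z a c) (n : ℕ) : M.ρ (c ^ n) = M.ρ c ^ n := by
  induction n with
  | zero => rw [pow_zero, pow_zero, M.ρ_one]
  | succ n ih => rw [pow_succ, pow_succ, M.ρ_mul _ _ (M.inC_pow hc n) hc, ih]

theorem ρ_sq {c : G} (hc : InC z a c) (h2 : c * c = 1) : M.ρ c * M.ρ c = 1 := by
  rw [← M.ρ_mul _ _ hc hc, h2, M.ρ_one]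

/-- A commuting element fixes the image. -/
theorem ρ_fix {c q : G} (hc : InC z a c) (hq : q ∈ J) (h : c * q = q * c) :
    M.ρ c (M.π q) = M.π q := by
  rw [← M.ρ_π c hc q hq, cj_fix_iff.2 h]

theorem exists_tp (i : Fin 45) : ∃ c : G, InC z a c ∧ M.ρ c = tp i := by
  obtain ⟨c, hc, h⟩ := M.ρ_surj (Unitary.tv H41.SUSix.hK (v := pv i) (c := 1) (pv_iso i)
    (Unitary.one_skew_two H41.SUSix.hK))
  refine ⟨c, hc, Equiv.ext fun w => ?_⟩
  rw [h]; refine (Unitary.ap_tv _ _ _ _).trans ?_; rw [one_mul, tp_apply]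
  rfl

theorem exists_of_closure {g : Equiv.Perm W4} (hg : g ∈ Subgroup.closure (Set.range tp)) :
    ∃ c : G, InC z a c ∧ M.ρ c = g := by
  refine Subgroup.closure_induction ?_ ?_ ?_ ?_ hg
  · rintro _ ⟨i, rfl⟩; exact M.exists_tp i
  · exact ⟨1, M.inC_one, M.ρ_one⟩
  · rintro _ _ _ _ ⟨p, hp, rfl⟩ ⟨q, hq, rfl⟩
    exact ⟨p * q, M.inC_mul hp hq, M.ρ_mul p q hp hq⟩
  · rintro _ _ ⟨p, hp, rfl⟩
    exact ⟨p⁻¹, M.inC_inv hp, M.ρ_inv hp⟩

/-- An element of three-power order inducing the torus element. -/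
theorem exists_y : ∃ y : G, InC z a y ∧ (∀ w, M.ρ y w = ap (dg yT) w) ∧
    ∃ s : ℕ, y ^ 3 ^ s = 1 := by
  obtain ⟨y, hy, hρ⟩ := M.ρ_surj (dg yT)
  have h3 : M.ρ y ^ 3 = 1 := by
    refine Equiv.ext fun w => ?_
    show M.ρ y (M.ρ y (M.ρ y w)) = w
    rw [hρ, hρ, hρ, ← Unitary.ap_mul, ← Unitary.ap_mul, ← dg_add, ← dg_add, three_t,
      dg_zero, Unitary.ap_one]
  obtain ⟨s, m, hm, hsm⟩ :=
    Nat.exists_eq_pow_mul_and_not_dvd (orderOf_pos y).ne' 3 (by norm_num)
  have hone : ∀ e : ℕ, e % 3 = 1 → m ∣ e →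
      ∃ y : G, InC z a y ∧ (∀ w, M.ρ y w = ap (dg yT) w) ∧ ∃ s : ℕ, y ^ 3 ^ s = 1 := by
    intro e he hme
    refine ⟨y ^ e, M.inC_pow hy e, fun w => ?_, s, ?_⟩
    · rw [M.ρ_pow hy, pow_eq_pow_mod e h3, he, pow_one, hρ]
    · obtain ⟨k, rfl⟩ := hme
      rw [← pow_mul, show m * k * 3 ^ s = 3 ^ s * m * k by ring, ← hsm, pow_mul, pow_orderOf_eq_one,
        one_pow]
  rcases (show m % 3 = 1 ∨ m % 3 = 2 by omega) with e | e
  · exact hone m e dvd_rfl
  · exact hone (2 * m) (by omega) ⟨2, mul_comm _ _⟩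

/-- An involution whose image commutes with the element without fixed vectors: its centraliser in
the core. -/
theorem std {y : G} (hy : InC z a y) (hρy : ∀ w, M.ρ y w = ap (dg yT) w) {s : ℕ}
    (hys : y ^ 3 ^ s = 1) {c : G} (hc : InC z a c) (c2 : c * c = 1)
    (hcy : M.ρ c * M.ρ y = M.ρ y * M.ρ c) :
    ∃ x ∈ J, M.ρ c (M.π x) = M.π x ∧ c * x * y = y * (c * x) ∧
      ∀ p ∈ J, (c * p = p * c ↔ M.ρ c (M.π p) = M.π p ∧ pol4 (M.π x) (M.π p) = 0) := by
  classical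
  have hinj : Function.Injective fun w : W4 => w + M.ρ y w := fun u v e => by
    have e' : M.ρ y (u + v) = u + v := by
      rw [(M.ρ_iso y hy).add]
      refine (vec_eq_of_add ?_).symm
      rw [add_add_add_comm]
      have h := congrArg (fun w => w + (v + M.ρ y v)) e
      simp only [vec_add_self] at h
      exact h
    exact vec_eq_of_add (y_fix (by rw [← hρy]; exact e'))
  have hsurj : Function.Surjective fun w : W4 => w + M.ρ y w := Finite.injective_iff_surjective.1 hinj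
  set r := c⁻¹ * cj y c with hr
  have hrC : InC z a r := M.inC_mul (M.inC_inv hc) (M.inC_cj hy hc)
  have hrJ : r ∈ J := by
    rw [← M.ρ_ker r hrC, M.ρ_mul _ _ (M.inC_inv hc) (M.inC_cj hy hc), M.ρ_inv hc, M.ρ_cj hy hc,
      ← hcy, mul_inv_cancel_right, inv_mul_cancel]
  obtain ⟨w, hw⟩ := hsurj (M.π r)
  obtain ⟨x, hx, rfl⟩ := M.π_surj w
  have hyx : cj y x ∈ J := M.norm y hy x hx
  set v := x⁻¹ * (r * cj y x) with hv
  have hvV : InV z a v := by
    refine M.π_eq hx (J.mul_mem hrJ hyx) ?_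
    rw [M.π_mul _ hrJ _ hyx, M.ρ_π y hy x hx, ← hw]
    rw [add_assoc, vec_add_self, add_zero]
  set d := c * x with hd
  have hdy : cj y d = d * v := by
    rw [hd, hv, hr]; simp [cj, mul_assoc]
  have hyv : cj y v = v := cj_fix_iff.2 (M.V_comm hvV hy)
  have hiter : ∀ n : ℕ, cj (y ^ n) d = d * v ^ n := by
    intro n
    induction n with
    | zero => simp [cj]
    | succ n ih =>
      rw [pow_succ', ← cj_cj, ih, cj_mul', hdy, cj_fix_iff.2 ((show Commute y v from cj_fix_iff.1 hyv).pow_right n).eq,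
        mul_assoc, ← pow_succ']
  have hv1 : v = 1 := by
    have h := hiter (3 ^ s)
    rw [hys, cj_one', eq_comm, mul_eq_left] at h
    obtain ⟨k, hk⟩ : Odd (3 ^ s) := (by decide : Odd 3).pow
    rw [hk, pow_succ, pow_mul, pow_two, M.V_sq hvV, one_pow, one_mul] at h
    exact h
  have hdy' : y * d = d * y := cj_fix_iff.1 (by rw [hdy, hv1, mul_one])
  have hdC : InC z a d := M.inC_mul hc (M.le x hx)
  have hρd : M.ρ d = M.ρ c := by
    rw [hd, M.ρ_mul _ _ hc (M.le x hx), M.ρ_of_J hx, mul_one]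
  have hπd : M.ρ c (M.π x) = M.π x := by
    have hdd : d * d = cj c x * x := by
      have ci : c⁻¹ = c := inv_eq_of_mul_eq_one_right c2
      rw [hd, cj, ci]; group
    have hddJ : d * d ∈ J := by rw [hdd]; exact J.mul_mem (M.norm c hc x hx) hx
    have h0 := M.ρ_fix hy hddJ (Commute.mul_right hdy' hdy').eq
    rw [hρy] at h0
    have h1 := y_fix h0
    rw [hdd, M.π_mul _ (M.norm c hc x hx) _ hx, M.ρ_π c hc x hx] at h1
    exact vec_eq_of_add h1
  have hflat : ∀ p ∈ J, M.ρ c (M.π p) = M.π p → cj d p = p := by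
    intro p hp hfix
    obtain ⟨w, hw⟩ := hsurj (M.π p)
    simp only at hw
    have hwc : M.ρ c w = w := hinj (by
      show M.ρ c w + M.ρ y (M.ρ c w) = w + M.ρ y w
      rw [← Equiv.Perm.mul_apply, ← hcy, Equiv.Perm.mul_apply, ← (M.ρ_iso c hc).add, hw]
      exact hfix)
    obtain ⟨q, hq, rfl⟩ := M.π_surj w
    have hyq := M.norm y hy q hq
    have hfV : InV z a (q⁻¹ * cj d q) := M.π_eq hq (M.norm d hdC q hq) (by
      rw [M.ρ_π d hdC q hq, hρd, hwc])
    set f := q⁻¹ * cj d q with hf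
    have e1 : cj d q = q * f := (mul_inv_cancel_left q _).symm
    have e2 : cj d (cj y q) = cj y q * f := by
      rw [cj_cj, ← hdy', ← cj_cj, e1, cj_mul', cj_fix_iff.2 (M.V_comm hfV hy)]
    have hvV' : InV z a ((q * cj y q)⁻¹ * p) := M.π_eq (J.mul_mem hq hyq) hp (by
      rw [M.π_mul _ hq _ hyq, M.ρ_π y hy q hq]; exact hw)
    set e := (q * cj y q)⁻¹ * p with he
    have hp' : p = q * cj y q * e := (mul_inv_cancel_left _ _).symm
    rw [hp', cj_mul', cj_mul', e1, e2, cj_fix_iff.2 (M.V_comm hvV' hdC)]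
    have hfc : f * cj y q = cj y q * f := (M.V_comm hfV (M.le _ hyq)).symm
    calc q * f * (cj y q * f) * e = q * (f * cj y q) * f * e := by group
      _ = q * cj y q * (f * f) * e := by rw [hfc]; group
      _ = q * cj y q * e := by rw [M.V_sq hfV, mul_one]
  refine ⟨x, hx, hπd, hdy'.symm, fun p hp => ⟨fun h => ?_, fun h => ?_⟩⟩
  all_goals
    have key : M.ρ c (M.π p) = M.π p → cj c p = cj x⁻¹ p := by
      intro hfix
      have hxi := J.inv_mem hx
      have hxp : cj x⁻¹ p ∈ J := M.norm _ (M.le _ hxi) p hp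
      have := hflat _ hxp (by rw [M.ρ_π _ (M.le _ hxi) p hp, M.ρ_of_J hxi]; exact hfix)
      rw [hd, cj_cj, mul_assoc, mul_inv_cancel, mul_one] at this
      exact this
    have hsplit : cj x⁻¹ p = p ↔ pol4 (M.π x) (M.π p) = 0 := by
      rw [cj_fix_iff, ← M.comm_iff hx hp]
      exact ⟨fun h => (Commute.inv_left_iff.1 h).eq, fun h => (Commute.inv_left (a := x) h).eq⟩
  · have hfix := M.ρ_fix hc hp h
    exact ⟨hfix, hsplit.1 (by rw [← key hfix]; exact cj_fix_iff.2 h)⟩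
  · exact cj_fix_iff.1 (by rw [key h.1]; exact hsplit.2 h.2)

/-- When the correction is in the image, a conjugate under the core commutes with the element. -/
theorem std_center {y : G} (hy : InC z a y) {c x : G} (hc : InC z a c) (c2 : c * c = 1)
    (hx : x ∈ J) (hxy : c * x * y = y * (c * x)) {w : W4}
    (hw : M.π x = w + M.ρ c w) : ∃ q ∈ J, cj q c * y = y * cj q c := by
  obtain ⟨q, hq, rfl⟩ := M.π_surj w
  refine ⟨q, hq, ?_⟩
  have ci : c⁻¹ = c := inv_eq_of_mul_eq_one_right c2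
  have hcq := M.norm c hc q hq
  set t := cj c q * q⁻¹ with ht
  have hconj : cj q c = c * t := by
    rw [ht]
    simp only [cj, ci]
    simp [← mul_assoc, c2]
  have hv : InV z a (x⁻¹ * t) := M.π_eq hx (J.mul_mem hcq (J.inv_mem hq)) (by
    rw [M.π_mul _ hcq _ (J.inv_mem hq), M.π_inv hq, M.ρ_π c hc q hq, hw, add_comm])
  have hcv : c * t = c * x * (x⁻¹ * t) := by group
  rw [hconj, hcv, mul_assoc, ← M.V_comm hv hy, ← mul_assoc, hxy, mul_assoc]

end Mod

end Cfsg.Agent.H2.Fi22z
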