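import Cfsg.Agent.H59.Yoshida
import Cfsg.Agent.H67.TwoSym.Count

/-!
The transfer of an involution into an abelian quotient of a 2-subgroup when only one short orbit of
its conjugates occurs there.
-/

set_option autoImplicit false
set_option linter.style.haveILetI false

namespace Cfsg.Agent.H2.Fi22z

open Subgroup MulAction

variable {G : Type*} [Group G] [Finite G]

open Classical in
/-- The cosets whose conjugate of `a` lies in an invariant set. -/
theorem count_val (a : G) (T : Subgroup G) [Fintype (G ⧸ T)]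
    (P : Set G) (hP : ∀ k ∈ T, ∀ y ∈ P, k * y * k⁻¹ ∈ P) :
    (Finset.univ.filter fun q : G ⧸ T => q.out⁻¹ * a * q.out ∈ P).card * Nat.card T =
      Nat.card (centralizer ({a} : Set G)) * Nat.card {y : G // y ∈ P ∧ IsConj a y} := by
  have hpre : (QuotientGroup.mk : G → G ⧸ T) ⁻¹'
      ↑(Finset.univ.filter fun q : G ⧸ T => q.out⁻¹ * a * q.out ∈ P) = {g : G | g⁻¹ * a * g ∈ P} := by
    ext g
    obtain ⟨k, hk⟩ := QuotientGroup.mk_out_eq_mul T g
    have e : ((g : G ⧸ T).out)⁻¹ * a * (g : G ⧸ T).out = (k : G)⁻¹ * (g⁻¹ * a * g) * k := by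
      rw [hk]; group
    simp only [Set.mem_preimage, Finset.coe_filter, Finset.mem_univ, true_and, Set.mem_ofPred_eq, e]
    refine ⟨fun h => ?_, fun h => ?_⟩
    · have := hP k k.2 _ h
      simpa [mul_assoc] using this
    · have := hP (k : G)⁻¹ (inv_mem k.2) _ h
      rwa [inv_inv] at this
  have h1 := Nat.card_congr (QuotientGroup.preimageMkEquivSubgroupProdSet T
    (↑(Finset.univ.filter fun q : G ⧸ T => q.out⁻¹ * a * q.out ∈ P) : Set (G ⧸ T)))
  rw [hpre, Nat.card_prod, Nat.card_coe_set_eq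
    (↑(Finset.univ.filter fun q : G ⧸ T => q.out⁻¹ * a * q.out ∈ P) : Set (G ⧸ T)),
    Set.ncard_coe_finset] at h1
  rw [mul_comm, ← h1]
  exact H67.TwoSym.card_conj_into a P

open Classical in
/-- The transfer of `a` is its value when the conjugates outside the short orbit `S` come in orbits
long enough. -/
theorem transfer_eq_self {A : Type*} [CommGroup A] (T : Subgroup G) {e j : ℕ}
    (hT : Nat.card T = 2 ^ e) (hj : j ≤ e) {a : G} (ha : a * a = 1) (φ : T →* A) (S : Set G)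
    (hS : ∀ k ∈ T, ∀ y ∈ S, k * y * k⁻¹ ∈ S) {v : A} (hv : v * v = 1)
    (hSv : ∀ y (hy : y ∈ T), y ∈ S → φ ⟨y, hy⟩ = v) {m : ℕ} (hm : Odd m)
    (hSc : Nat.card (centralizer ({a} : Set G)) * Nat.card {y : G // (y ∈ T ∧ y ∈ S) ∧ IsConj a y} =
      m * 2 ^ e)
    (hX : 2 * 2 ^ e ∣ 2 ^ j * Nat.card (centralizer ({a} : Set G)))
    (hbad : ∀ y ∈ T, IsConj a y → y ∉ S →
      Nat.card (T ⊓ centralizer ({y} : Set G) : Subgroup G) ≤ 2 ^ (e - j)) :
    MonoidHom.transfer φ a = v := by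
  haveI := Fintype.ofFinite (G ⧸ T)
  set val : G ⧸ T → G := fun q => q.out⁻¹ * a * q.out with hval
  have hcj : ∀ q, IsConj a (val q) := fun q => isConj_iff.2 ⟨q.out⁻¹, by rw [hval]; group⟩
  rw [H59.transfer_eq_prod_fixTerm φ a (fun g n h hn hn1 => by
    have h2 : orderOf a ∣ 2 := orderOf_dvd_of_pow_eq_one (by rw [pow_two, ha])
    obtain rfl := ((Nat.dvd_prime Nat.prime_two).1 (hn.trans h2)).resolve_left (by omega)
    rw [show (⟨_, h⟩ : T) = 1 from Subtype.ext (by simp [pow_two, ha]), map_one]),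
    ← Finset.prod_filter_mul_prod_filter_not Finset.univ (fun q => val q ∈ T ∧ val q ∈ S)]
  have hgood : ∀ q ∈ Finset.univ.filter (fun q => val q ∈ T ∧ val q ∈ S),
      H59.fixTerm φ a q.out = v := by
    intro q hq
    obtain ⟨-, h1, h2⟩ := Finset.mem_filter.1 hq
    rw [H59.fixTerm, dif_pos h1]
    exact hSv _ h1 h2
  have hS' : ∀ k ∈ T, ∀ y ∈ {y : G | y ∈ T ∧ y ∈ S}, k * y * k⁻¹ ∈ {y : G | y ∈ T ∧ y ∈ S} :=
    fun k hk y hy => ⟨T.mul_mem (T.mul_mem hk hy.1) (T.inv_mem hk), hS k hk y hy.2⟩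
  have hcg := count_val a T {y : G | y ∈ T ∧ y ∈ S} hS'
  simp only [Set.mem_ofPred_eq] at hcg
  rw [hSc, hT] at hcg
  have hcm : (Finset.univ.filter fun q => val q ∈ T ∧ val q ∈ S).card = m :=
    Nat.eq_of_mul_eq_mul_right (by positivity) hcg
  rw [Finset.prod_congr rfl hgood, Finset.prod_const, hcm]
  obtain ⟨k, rfl⟩ := hm
  rw [pow_succ, pow_mul, pow_two, hv, one_pow, one_mul, mul_eq_left]
  -- the long orbits
  rw [← Finset.prod_fiberwise_of_maps_to (t := Finset.image (fun q => H59.fixTerm φ a q.out)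
    (Finset.univ.filter fun q => ¬ (val q ∈ T ∧ val q ∈ S)))
    (fun q hq => Finset.mem_image_of_mem _ hq)]
  refine Finset.prod_eq_one fun w _ => ?_
  rw [Finset.prod_congr rfl (g := fun _ => w) fun q hq => (Finset.mem_filter.1 hq).2, Finset.prod_const]
  by_cases hw : w = 1
  · rw [hw, one_pow]
  set P : Set G := {y : G | ∃ hy : y ∈ T, φ ⟨y, hy⟩ = w ∧ y ∉ S} with hP
  have hPinv : ∀ k ∈ T, ∀ y ∈ P, k * y * k⁻¹ ∈ P := by
    rintro k hk y ⟨hy, hφ, hyS⟩
    refine ⟨T.mul_mem (T.mul_mem hk hy) (T.inv_mem hk), ?_, fun h => hyS ?_⟩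
    · rw [show (⟨k * y * k⁻¹, _⟩ : T) = ⟨k, hk⟩ * ⟨y, hy⟩ * ⟨k, hk⟩⁻¹ from Subtype.ext rfl, map_mul,
        map_mul, map_inv, mul_right_comm, mul_inv_cancel, one_mul, hφ]
    · have := hS k⁻¹ (T.inv_mem hk) _ h
      simpa [mul_assoc] using this
  have hset : ((Finset.univ.filter fun q => ¬ (val q ∈ T ∧ val q ∈ S)).filter
      fun q => H59.fixTerm φ a q.out = w) = Finset.univ.filter fun q => val q ∈ P := by
    ext q
    simp only [Finset.mem_filter, Finset.mem_univ, true_and, hP, Set.mem_ofPred_eq]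
    constructor
    · rintro ⟨h1, h2⟩
      by_cases ht : val q ∈ T
      · rw [H59.fixTerm, dif_pos ht] at h2
        exact ⟨ht, h2, fun h => h1 ⟨ht, h⟩⟩
      · rw [H59.fixTerm, dif_neg ht] at h2
        exact absurd h2.symm hw
    · rintro ⟨ht, h1, h2⟩
      exact ⟨fun h => h2 h.2, by rw [H59.fixTerm, dif_pos ht]; exact h1⟩
  rw [hset]
  by_cases hw2 : ∃ q, val q ∈ P
  swap
  · push Not at hw2
    rw [Finset.filter_false_of_mem (fun q _ => hw2 q), Finset.card_empty, pow_zero]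
  have hww : w * w = 1 := by
    obtain ⟨q, ht, hφ, -⟩ := hw2
    rw [← hφ, ← map_mul, show (⟨val q, ht⟩ : T) * ⟨val q, ht⟩ = 1 from Subtype.ext (by
      show val q * val q = 1
      rw [hval]
      calc q.out⁻¹ * a * q.out * (q.out⁻¹ * a * q.out) = q.out⁻¹ * (a * a) * q.out := by group
        _ = 1 := by rw [ha]; group), map_one]
  have hdvd : 2 ^ j ∣ Nat.card {y : G // y ∈ P ∧ IsConj a y} := by
    refine H67.TwoSym.two_pow_dvd_card hT {y : G | y ∈ P ∧ IsConj a y} ?_ ?_ hj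
    · rintro k hk y ⟨hy, hc⟩
      exact ⟨hPinv k hk y hy, hc.trans (isConj_iff.2 ⟨k, rfl⟩)⟩
    · rintro y ⟨⟨hy, -, hyS⟩, hc⟩
      exact hbad y hy hc hyS
  have hc := count_val a T P hPinv
  rw [hT] at hc
  obtain ⟨r, hr⟩ := hdvd
  obtain ⟨s, hs⟩ := hX
  have heven : (Finset.univ.filter fun q => val q ∈ P).card = 2 * (s * r) := by
    refine Nat.eq_of_mul_eq_mul_right (show 0 < 2 ^ e by positivity) ?_
    refine Eq.trans ?_ ((hc).trans ?_)
    · congr!
    rw [hr]
    calc Nat.card (centralizer ({a} : Set G)) * (2 ^ j * r)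
        = 2 ^ j * Nat.card (centralizer ({a} : Set G)) * r := by ring
      _ = 2 * (s * r) * 2 ^ e := by rw [hs]; ring
  rw [heven, pow_mul, pow_two, hww, one_pow]

end Cfsg.Agent.H2.Fi22z
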