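import Cfsg.Agent.H2.Fi22z.Sylows
import Cfsg.Agent.H2.Fi22z.Hyp
import Cfsg.Agent.H2.Fi22z.Mod
import Cfsg.Agent.H2.Fi22z.Transfer
import Cfsg.Agent.S1713
import Cfsg.Agent.S0283

/-!
The swapped configuration with the centraliser of `a` modulo `⟨a⟩` the unitary group in dimension
six: either that centraliser is perfect and the group is the Fischer group, or a transfer gives a
normal subgroup not containing `a`.
-/

set_option autoImplicit false
set_option linter.style.haveILetI false
set_option maxRecDepth 20000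
set_option linter.unusedSectionVars false

namespace Cfsg.Agent.H2.Fi22z

open Cfsg Subgroup
open scoped commutatorElement
open Cfsg.Agent.H49.USix (cj_fix_iff cj_mul' cj_one' W4)
open H76.LocallyS3 (cj cj_cj cj_injective)

/-- The derived subgroup of the centraliser of the four-group. -/
def LZero {G : Type*} [Group G] (z a : G) : Subgroup G := ⁅cent2 z a, cent2 z a⁆

namespace Base

variable {G : Type*} [Group G] [Finite G] {z a : G} {J E : Subgroup G} (B : Base z a J E)
include B

theorem LZero_le : LZero z a ≤ cent2 z a := commutator_le_self _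

theorem z_LZero : z ∈ LZero z a := by
  obtain ⟨q, hq, r, hr, e⟩ := B.nonab
  have : ⁅r⁻¹, q⁻¹⁆ = z := by
    rw [commutatorElement_def, inv_inv, inv_inv, mul_assoc, e]
    group
  have hm : ⁅r⁻¹, q⁻¹⁆ ∈ LZero z a :=
    commutator_mem_commutator (inv_mem (B.J_le hr)) (inv_mem (B.J_le hq))
  rwa [this] at hm

theorem LZero_norm {h : G} (hh : h * z = z * h) {x : G} (hx : x ∈ LZero z a) :
    cj h x ∈ LZero z a := by
  have hle : (LZero z a).map (MulAut.conj h).toMonoidHom ≤ LZero z a := by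
    rw [LZero, map_commutator]
    have : (cent2 z a).map (MulAut.conj h).toMonoidHom ≤ cent2 z a := by
      rintro _ ⟨k, hk, rfl⟩
      exact mem_cent2.2 (B.cj_inC hh (mem_cent2.1 hk))
    exact commutator_mono this this
  exact hle (map_cj_mem hx)

/-- The centraliser of the four-group is its derived subgroup times `⟨a⟩`. -/
theorem LZero_sup (M : Mod z a J) {P : Type*} [Group P] (χ : ↥(cent2 z a) →* P)
    (hs : Function.Surjective χ) (hk : ∀ c, χ c = 1 ↔ (c : G) ∈ J) (hP : commutator P = ⊤)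
    {x : G} (hx : x ∈ cent2 z a) : x ∈ LZero z a ∨ a * x ∈ LZero z a := by
  classical
  have hJ : ∀ p ∈ J, p ∈ LZero z a ∨ a * p ∈ LZero z a := by
    intro p hp
    obtain ⟨y, hy, hρy, -⟩ := M.exists_y
    have hinj : Function.Injective fun w : W4 => w + M.ρ y w := fun u v e => by
      have e' : M.ρ y (u + v) = u + v := by
        rw [(M.ρ_iso y hy).add]
        refine (H49.UChar.vec_eq_of_add ?_).symm
        rw [add_add_add_comm]
        have h := congrArg (fun w => w + (v + M.ρ y v)) e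
        simp only [H49.USix.vec_add_self] at h
        exact h
      exact H49.UChar.vec_eq_of_add (y_fix (by rw [← hρy]; exact e'))
    obtain ⟨w, hw⟩ := (Finite.injective_iff_surjective.1 hinj) (M.π p)
    obtain ⟨q, hq, rfl⟩ := M.π_surj w
    have hyq := B.normH y hy.1 q hq
    have hc : cj y q * q⁻¹ ∈ LZero z a :=
      commutator_mem_commutator (mem_cent2.2 hy) (B.J_le hq)
    have hcJ : cj y q * q⁻¹ ∈ J := J.mul_mem hyq (J.inv_mem hq)
    have hV : InV z a ((cj y q * q⁻¹)⁻¹ * p) := M.π_eq hcJ hp (by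
      rw [M.π_mul _ hyq _ (J.inv_mem hq), M.π_inv hq, M.ρ_π y hy q hq, add_comm]; exact hw)
    have hv : (cj y q * q⁻¹)⁻¹ * p ∈ LZero z a ∨ a * ((cj y q * q⁻¹)⁻¹ * p) ∈ LZero z a := by
      rcases hV with e | e | e | e <;> rw [e]
      · exact Or.inl (one_mem _)
      · exact Or.inl B.z_LZero
      · exact Or.inr (by rw [B.a_sq]; exact one_mem _)
      · exact Or.inr (by rw [← mul_assoc, B.a_sq, one_mul]; exact B.z_LZero)
    rcases hv with h | h
    · left
      have := (LZero z a).mul_mem hc h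
      rwa [mul_inv_cancel_left] at this
    · right
      have := (LZero z a).mul_mem hc h
      rwa [← mul_assoc, (B.le _ hcJ).2, mul_assoc, mul_inv_cancel_left] at this
  have himg : ((LZero z a).subgroupOf (cent2 z a)).map χ = ⊤ := by
    rw [← hP, LZero, _root_.commutator_def, ← map_top_of_surjective χ hs, ← map_commutator]
    congr 1
    apply map_injective (cent2 z a).subtype_injective
    rw [subgroupOf_map_subtype, map_commutator, ← MonoidHom.range_eq_map, range_subtype,
      inf_of_le_left (commutator_le_self _)]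
  obtain ⟨l, hl, e⟩ : χ ⟨x, hx⟩ ∈ ((LZero z a).subgroupOf (cent2 z a)).map χ := himg ▸ mem_top _
  have hd : (((l⁻¹ * ⟨x, hx⟩ : ↥(cent2 z a))) : G) ∈ J := by
    rw [← hk, map_mul, map_inv, e, inv_mul_cancel]
  have hx' : x = (l : G) * ((l⁻¹ * ⟨x, hx⟩ : ↥(cent2 z a)) : G) := by simp
  rcases hJ _ hd with h | h
  · left; rw [hx']; exact (LZero z a).mul_mem (mem_subgroupOf.1 hl) h
  · right
    rw [hx', ← mul_assoc, (mem_cent2.1 l.2).2.symm, mul_assoc]
    exact (LZero z a).mul_mem (mem_subgroupOf.1 hl) h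

theorem QA_center [IsSimpleGroup (QA a)] : center (QA a) = ⊥ := by
  rcases IsSimpleGroup.eq_bot_or_eq_top_of_normal (center (QA a)) inferInstance with h | h
  · exact h
  · exfalso
    obtain ⟨q, hq, r, hr, e⟩ := B.nonab
    have h1 : mk2 a (B.le r hr).2 * mk2 a (B.le q hq).2 = mk2 a (B.le q hq).2 * mk2 a (B.le r hr).2 :=
      (mem_center_iff.1 (h ▸ mem_top (mk2 a (B.le q hq).2)) _)
    rw [mk2, mk2, ← QuotientGroup.mk_mul, ← QuotientGroup.mk_mul, QuotientGroup.eq, mem_subgroupOf,
      mem_zpowers_invol B.a_sq] at h1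
    simp only [coe_mul, coe_inv, inv_mul_eq_one, inv_mul_eq_iff_eq_mul] at h1
    have hz : z * a = a * z := B.az.symm
    rw [e] at h1
    rcases h1 with h1 | h1
    · exact B.z_ne (mul_eq_left.1 (h1.trans (mul_one _)).symm)
    · rw [mul_assoc (q * r), left_eq_mul, hz] at h1
      exact B.az_ne_one h1

/-- The centraliser of `a` is perfect, or its derived subgroup avoids `a`. -/
theorem perfect_or_split {K : Type} [Field K] [Fintype K] (hK : Fintype.card K = 4)
    (eQ : QA a ≃* Cfsg.PSU 6 K 2) (hswap : ∃ h : G, h * z = z * h ∧ cj h a = a * z) :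
    Cfsg.Spor.IsoFi22 G ∨
      a ∉ LZero z a := by
  haveI := Cfsg.Agent.S0283.result (F := K) (q := 2) (by rw [hK]; norm_num) 6 (by norm_num)
    (by norm_num)
  haveI : IsSimpleGroup (QA a) := eQ.isSimpleGroup
  set X := centralizer ({a} : Set G) with hX
  let π : ↥X →* QA a := QuotientGroup.mk' _
  have hπs : Function.Surjective π := QuotientGroup.mk'_surjective _
  have hπk : π.ker = (zpowers a).subgroupOf X := QuotientGroup.ker_mk' _
  have hperf : commutator (QA a) = ⊤ := by
    rcases IsSimpleGroup.eq_bot_or_eq_top_of_normal (commutator (QA a)) inferInstance with h | h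
    · exfalso
      have hc := B.QA_center
      have hab : center (QA a) = ⊤ := eq_top_iff.2 fun u _ => mem_center_iff.2 fun v => by
        have hm : ⁅v, u⁆ ∈ commutator (QA a) := by
          rw [_root_.commutator_def]; exact commutator_mem_commutator (mem_top _) (mem_top _)
        rw [h, mem_bot, commutatorElement_eq_one_iff_mul_comm] at hm
        exact hm
      rw [hc] at hab
      exact bot_ne_top hab
    · exact h
  have hsup : commutator ↥X ⊔ π.ker = ⊤ := by
    rw [← comap_map_eq, _root_.commutator_def, map_commutator, map_top_of_surjective π hπs, ← _root_.commutator_def,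
      hperf, comap_top]
  let aX : ↥X := ⟨a, mem_centralizer_singleton_iff.2 rfl⟩
  have hmap : (commutator ↥X).map X.subtype = ⁅X, X⁆ := by
    rw [_root_.commutator_def, map_commutator, ← MonoidHom.range_eq_map, range_subtype]
  by_cases ha : a ∈ ⁅X, X⁆
  · left
    have htop : commutator ↥X = ⊤ := by
      refine top_le_iff.1 (hsup.ge.trans (sup_le le_rfl ?_))
      rw [hπk]
      intro x hx
      rw [mem_subgroupOf, mem_zpowers_invol B.a_sq] at hx
      rcases hx with e | e
      · rw [show x = 1 from Subtype.ext e]; exact one_mem _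
      · rw [← hmap] at ha
        obtain ⟨y, hy, e'⟩ := ha
        rw [show x = y from Subtype.ext (e.trans e'.symm)]; exact hy
    have hcent : center ↥X = (zpowers a).subgroupOf X := by
      refine le_antisymm (fun x hx => ?_) fun x hx => ?_
      · have : π x ∈ center (QA a) := mem_center_iff.2 fun g => by
          obtain ⟨g, rfl⟩ := hπs g
          rw [← map_mul, ← map_mul, mem_center_iff.1 hx g]
        rw [B.QA_center, mem_bot, ← MonoidHom.mem_ker, hπk] at this
        exact this
      · rw [mem_subgroupOf] at hx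
        obtain ⟨k, hk⟩ := hx
        refine mem_center_iff.2 fun g => Subtype.ext ?_
        rw [coe_mul, coe_mul, ← hk]
        exact ((show Commute (g : G) a from mem_centralizer_singleton_iff.1 g.2).zpow_right k).eq
    have hq : Cfsg.IsQuasisimple ↥X :=
      ⟨⟨htop⟩, (QuotientGroup.quotientMulEquivOfEq hcent).isSimpleGroup⟩
    obtain ⟨h, -, hha⟩ := hswap
    exact Cfsg.Agent.S1713.result a (orderOf_eq_prime (by rw [pow_two, B.a_sq]) B.a_ne) hq K hK eQ
      ⟨h, by
        rw [show h * a * h⁻¹ = a * z from hha]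
        exact mem_centralizer_singleton_iff.2 (by rw [mul_assoc, ← B.az]),
      fun e => B.az_ne_a (hha.symm.trans e)⟩
  · exact Or.inr fun h => ha (commutator_mono inf_le_right inf_le_right h)

/-- The transfer gives a normal subgroup avoiding `a`. -/
theorem exists_N (M : Mod z a J) {P : Type*} [Group P] (χ : ↥(cent2 z a) →* P)
    (hs : Function.Surjective χ) (hk : ∀ c, χ c = 1 ↔ (c : G) ∈ J) (hP : commutator P = ⊤)
    (hswap : ∃ h : G, h * z = z * h ∧ cj h a = a * z)
    (haL : a ∉ LZero z a) :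
    ∃ N : Subgroup G, N.Normal ∧ a ∉ N ∧ commutator G ≤ N ∧ N.index ∣ 4 := by
  classical
  haveI : Fact (Nat.Prime 2) := ⟨Nat.prime_two⟩
  obtain ⟨T, hJT, hTz, hT, hX, hcard, ⟨t, ht, hta⟩, hnot⟩ := B.exists_sylows hswap
  set C := centralizer ({z} : Set G) with hC
  let L := (LZero z a).subgroupOf C
  haveI hLn : L.Normal := ⟨fun n hn g => by
    rw [mem_subgroupOf] at hn ⊢
    exact B.LZero_norm (mem_centralizer_singleton_iff.1 g.2) hn⟩
  have hL2 : L.relIndex ((cent2 z a).subgroupOf C) = 2 := by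
    rw [relIndex, index_eq_two_iff]
    refine ⟨⟨⟨a, hTz (hJT B.aJ)⟩, mem_subgroupOf.2 (B.J_le B.aJ)⟩, fun b => ?_⟩
    have hb : ((b : ↥C) : G) ∈ cent2 z a := b.2
    simp only [mem_subgroupOf, coe_mul, L]
    rw [(mem_cent2.1 hb).2]
    rcases B.LZero_sup M χ hs hk hP hb with h | h
    · refine Or.inr ⟨h, fun h' => haL ?_⟩
      have := (LZero z a).mul_mem h' ((LZero z a).inv_mem h)
      rwa [mul_inv_cancel_right] at this
    · refine Or.inl ⟨h, fun h' => haL ?_⟩
      have := (LZero z a).mul_mem h ((LZero z a).inv_mem h')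
      rwa [mul_inv_cancel_right] at this
  have hLi : L.index = 4 := by
    rw [← relIndex_mul_index (show L ≤ (cent2 z a).subgroupOf C from fun x hx => B.LZero_le hx), hL2,
      B.swap_index hswap]
  have hq4 : Nat.card (↥C ⧸ L) = 2 ^ 2 := hLi
  letI : CommGroup (↥C ⧸ L) :=
    { (inferInstance : Group (↥C ⧸ L)) with
      mul_comm := IsPGroup.commutative_of_card_eq_prime_sq hq4 }
  let φ : ↥T →* (↥C ⧸ L) := (QuotientGroup.mk' L).comp (Subgroup.inclusion hTz)
  have hsq : φ ⟨a, hJT B.aJ⟩ * φ ⟨a, hJT B.aJ⟩ = 1 := by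
    rw [← map_mul, show (⟨a, hJT B.aJ⟩ : ↥T) * ⟨a, hJT B.aJ⟩ = 1 from Subtype.ext B.a_sq, map_one]
  obtain ⟨e, he⟩ := IsPGroup.iff_card.1 hT.pgrp
  set S : Set G := {a, a * z} with hS
  have hTzc : ∀ k ∈ T, k * z = z * k := fun k hk => mem_centralizer_singleton_iff.1 (hTz hk)
  have hSc : ∀ k ∈ T, ∀ y ∈ S, k * y * k⁻¹ ∈ S := by
    intro k hk y hy
    have hy' : cj k a = a ∨ cj k a = a * z := B.fix_or (hTzc k hk)
    rcases hy with rfl | rfl
    · exact hy'
    · show cj k (a * z) ∈ S
      rw [cj_mul', cj_fix_iff.2 (hTzc k hk)]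
      rcases hy' with h | h <;> rw [h]
      · exact Or.inr rfl
      · left; rw [mul_assoc, B.z_sq, mul_one]
  have hSv : ∀ y (hy : y ∈ T), y ∈ S → φ ⟨y, hy⟩ = φ ⟨a, hJT B.aJ⟩ := by
    intro y hy hyS
    rcases hyS with rfl | rfl
    · rfl
    · refine QuotientGroup.eq.2 (mem_subgroupOf.2 ?_)
      show (a * z)⁻¹ * a ∈ LZero z a
      rw [mul_inv_rev, mul_assoc, inv_mul_cancel, mul_one]
      exact inv_mem B.z_LZero
  have hS2 : Nat.card {y : G // (y ∈ T ∧ y ∈ S) ∧ IsConj a y} = 2 := by
    rw [Nat.card_eq_two_iff]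
    refine ⟨⟨a, ⟨hJT B.aJ, Or.inl rfl⟩, IsConj.refl a⟩,
      ⟨a * z, ⟨hJT (J.mul_mem B.aJ B.zJ), Or.inr rfl⟩, isConj_iff.2 ⟨t, hta⟩⟩,
      fun h => B.az_ne_a (congrArg Subtype.val h).symm, ?_⟩
    rw [Set.eq_univ_iff_forall]
    rintro ⟨y, ⟨-, rfl | rfl⟩, -⟩
    · exact Or.inl rfl
    · exact Or.inr rfl
  obtain ⟨P, hP'⟩ := hX.sylow
  have hcard0 : Nat.card ↥(T ⊓ cent2 z a : Subgroup G) * 2 = 2 ^ e := by rw [hcard, he]
  obtain ⟨m, hm⟩ : Nat.card ↥(T ⊓ cent2 z a : Subgroup G) ∣ Nat.card ↥(centralizer ({a} : Set G)) :=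
    card_dvd_of_le hX.le
  have hmodd : Odd m := by
    have hnd := P.not_dvd_index
    have h1 := card_mul_index (P : Subgroup ↥(centralizer ({a} : Set G)))
    rw [show (P : Subgroup ↥(centralizer ({a} : Set G))) = _ from hP',
      Nat.card_congr (subgroupOfEquivOfLe hX.le).toEquiv, hm] at h1
    have hmi := Nat.eq_of_mul_eq_mul_left Nat.card_pos h1
    rw [show (P : Subgroup ↥(centralizer ({a} : Set G))) = _ from hP', hmi] at hnd
    exact Nat.not_even_iff_odd.1 fun h => hnd (even_iff_two_dvd.1 h)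
  have he2 : 2 ≤ e := by
    have h1 : Nat.card ↥J ∣ 2 ^ e := he ▸ card_dvd_of_le hJT
    have h2 : 2 ^ 9 ∣ Nat.card ↥J := B.E_card ▸ card_dvd_of_le B.E_le
    have := (Nat.pow_dvd_pow_iff_le_right (by norm_num)).1 (h2.trans h1)
    omega
  have hv := transfer_eq_self T he (j := 2) he2 B.a_sq φ S hSc hsq hSv hmodd
    (by rw [hS2, hm, ← hcard0]; ring)
    (⟨m, by rw [hm, ← hcard0]; ring⟩) ?_
  · refine ⟨(MonoidHom.transfer φ).ker, inferInstance, fun h => ?_, Abelianization.commutator_subset_ker _, ?_⟩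
    · rw [MonoidHom.mem_ker, hv, ← MonoidHom.mem_ker] at h
      exact haL (mem_subgroupOf.1 ((QuotientGroup.eq_one_iff _).1 h))
    · rw [index_ker, ← hLi]
      exact (card_subgroup_dvd_card (MonoidHom.transfer φ).range)
  -- other conjugates of `a` have long orbits
  intro y hy hc hyS
  set U := T ⊓ centralizer ({y} : Set G) with hU
  obtain ⟨g, hg⟩ := isConj_iff.1 hc.symm
  have hUp : IsPGroup 2 ↥U := hT.pgrp.to_le inf_le_left
  obtain ⟨i, hi⟩ := IsPGroup.iff_card.1 hUp
  by_contra hcon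
  rw [hi, not_le] at hcon
  have hbig : Nat.card ↥(T ⊓ cent2 z a : Subgroup G) ≤ Nat.card ↥U := by
    have := (Nat.pow_lt_pow_iff_right (by norm_num)).1 hcon
    have h2 : 2 ^ (e - 1) ≤ 2 ^ i := Nat.pow_le_pow_right (by norm_num) (by omega)
    have h3 : 2 ^ (e - 1) * 2 = 2 ^ e := by rw [← pow_succ]; congr 1; omega
    rw [hi]; omega
  have hmapU : U.map (MulAut.conj g).toMonoidHom ≤ centralizer ({a} : Set G) := by
    rintro _ ⟨u, hu, rfl⟩
    refine mem_centralizer_singleton_iff.2 ?_
    have e1 := congrArg (cj g) (mem_centralizer_singleton_iff.1 hu.2)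
    rwa [cj_mul', cj_mul', show cj g y = a from hg] at e1
  obtain ⟨x, hx, hxT⟩ := hX.conj (hUp.map _) hmapU
  have hxa : x * a = a * x := mem_centralizer_singleton_iff.1 hx
  have heqmap : U.map (MulAut.conj (x * g)).toMonoidHom = T ⊓ cent2 z a := by
    refine eq_of_le_of_card_ge ?_ ?_
    · rintro _ ⟨u, hu, rfl⟩
      have := hxT _ (map_cj_mem (h := g) hu)
      rwa [cj_cj] at this
    · rw [← Nat.card_congr (U.equivMapOfInjective _ (MulAut.conj (x * g)).injective).toEquiv]
      exact hbig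
  have hzU : z ∈ U := ⟨hJT B.zJ, mem_centralizer_singleton_iff.2 (hTzc y hy).symm⟩
  have hw : cj (x * g) z ∈ T ⊓ cent2 z a := heqmap ▸ map_cj_mem hzU
  have hgy : cj (x * g) y = a := by
    rw [← cj_cj, show cj g y = a from hg, cj_fix_iff.2 hxa]
  rcases B.central_inV (T := T ⊓ cent2 z a) (le_inf hJT B.J_le) (mem_cent2.1 hw.2).1 (fun u hu => by
    rw [← heqmap] at hu
    obtain ⟨v, hv, rfl⟩ := hu
    have e1 := congrArg (cj (x * g)) (hTzc v hv.1).symm
    rwa [cj_mul', cj_mul'] at e1) with e1 | e1 | e1 | e1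
  · exact B.z_ne (cj_injective _ (e1.trans (by simp [cj])))
  · apply hyS
    have hxg : (x * g)⁻¹ * z = z * (x * g)⁻¹ :=
      (Commute.inv_left (show Commute (x * g) z from cj_fix_iff.1 e1)).eq
    have : y = cj (x * g)⁻¹ a := by rw [← hgy, cj_cj, inv_mul_cancel, cj_one']
    rcases B.fix_or hxg with e2 | e2 <;> rw [this, e2]
    exacts [Or.inl rfl, Or.inr rfl]
  · exact hnot _ e1
  · refine hnot (t * (x * g)) ?_
    rw [← cj_cj, e1, cj_mul', hta, cj_fix_iff.2 (hTzc t ht), mul_assoc, B.z_sq, mul_one]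

end Base

end Cfsg.Agent.H2.Fi22z
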