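import Cfsg.Agent.H2.Fi22z.Setup
import Cfsg.Agent.H33.SylU.Transfer

/-!
A normal subgroup avoiding `a` inherits the extraspecial centraliser configuration.
-/

set_option autoImplicit false
set_option linter.style.haveILetI false
set_option maxRecDepth 20000
set_option linter.unusedSectionVars false

namespace Cfsg.Agent.H2.Fi22z

open Cfsg Subgroup
open Cfsg.Agent.H49.USix (cj_fix_iff cj_mul' cj_one')
open H76.LocallyS3 (cj cj_cj cj_injective)

/-- The inclusion of the centraliser of `z` in `N`. -/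
def incD {G : Type*} [Group G] {z : G} {N : Subgroup G} (hzN : z ∈ N) :
    ↥(centralizer ({(⟨z, hzN⟩ : ↥N)} : Set ↥N)) →* G :=
  N.subtype.comp (centralizer ({(⟨z, hzN⟩ : ↥N)} : Set ↥N)).subtype

theorem incD_inj {G : Type*} [Group G] {z : G} {N : Subgroup G} (hzN : z ∈ N) :
    Function.Injective (incD hzN) :=
  fun _ _ h => Subtype.ext (Subtype.ext h)

theorem incD_comm {G : Type*} [Group G] {z : G} {N : Subgroup G} (hzN : z ∈ N)
    (d : ↥(centralizer ({(⟨z, hzN⟩ : ↥N)} : Set ↥N))) : incD hzN d * z = z * incD hzN d :=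
  congrArg Subtype.val (mem_centralizer_singleton_iff.1 d.2)

theorem exists_incD {G : Type*} [Group G] {z : G} {N : Subgroup G} (hzN : z ∈ N) {x : G}
    (hx : x ∈ N) (hxz : x * z = z * x) : ∃ d, incD hzN d = x :=
  ⟨⟨⟨x, hx⟩, mem_centralizer_singleton_iff.2 (Subtype.ext hxz)⟩, rfl⟩

namespace Base

variable {G : Type*} [Group G] [Finite G] {z a : G} {J E : Subgroup G} (B : Base z a J E)
  {N : Subgroup G} [N.Normal] (hzN : z ∈ N) (haN : a ∉ N) (hdec : ∀ q ∈ J, q ∈ N ∨ a * q ∈ N)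
include B hzN haN hdec

theorem core_sub : Cfsg.pCore 2 ↥(centralizer ({(⟨z, hzN⟩ : ↥N)} : Set ↥N)) =
    J.comap (incD hzN) := by
  haveI : Fact (Nat.Prime 2) := ⟨Nat.prime_two⟩
  refine le_antisymm ?_ (le_sSup ⟨⟨fun n hn g => ?_⟩, B.Jp.comap_of_injective _ (incD_inj hzN)⟩)
  · intro d hd
    refine B.core ((Cfsg.pCore 2 ↥(centralizer ({(⟨z, hzN⟩ : ↥N)} : Set ↥N))).map
      (incD hzN)) ((Cores.pCore_isPGroup (p := 2)
        (G := ↥(centralizer ({(⟨z, hzN⟩ : ↥N)} : Set ↥N)))).map _) ?_ ?_ (mem_map_of_mem _ hd)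
    · rintro _ ⟨n, -, rfl⟩; exact incD_comm hzN n
    · rintro h hh _ ⟨n, hn, rfl⟩
      have hmem : ∀ (u : G), u * z = z * u → ∀ d : ↥(centralizer ({(⟨z, hzN⟩ : ↥N)} : Set ↥N)),
          (⟨cj u (incD hzN d), (inferInstance : N.Normal).conj_mem _ d.1.2 u⟩ : ↥N) ∈
            centralizer ({(⟨z, hzN⟩ : ↥N)} : Set ↥N) := by
        intro u hu d
        refine mem_centralizer_singleton_iff.2 (Subtype.ext ?_)
        show cj u (incD hzN d) * z = z * cj u (incD hzN d)
        have e := cj_comm (g := u) (incD_comm hzN d)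
        rwa [cj_fix_iff.2 hu] at e
      have hh' : h⁻¹ * z = z * h⁻¹ := (Commute.inv_left (show Commute h z from hh)).eq
      let conjD : ↥(centralizer ({(⟨z, hzN⟩ : ↥N)} : Set ↥N)) ≃*
          ↥(centralizer ({(⟨z, hzN⟩ : ↥N)} : Set ↥N)) :=
        { toFun := fun d => ⟨_, hmem h hh d⟩
          invFun := fun d => ⟨_, hmem h⁻¹ hh' d⟩
          left_inv := fun d => Subtype.ext (Subtype.ext (by
            show cj h⁻¹ (cj h (incD hzN d)) = _
            rw [cj_cj, inv_mul_cancel, cj_one']; rfl))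
          right_inv := fun d => Subtype.ext (Subtype.ext (by
            show cj h (cj h⁻¹ (incD hzN d)) = _
            rw [cj_cj, mul_inv_cancel, cj_one']; rfl))
          map_mul' := fun d d' => Subtype.ext (Subtype.ext (by
            show cj h (incD hzN (d * d')) = _
            rw [map_mul, cj_mul']; rfl)) }
      exact ⟨conjD n, H33.SylU.map_pCore_le 2 conjD ⟨n, hn, rfl⟩, rfl⟩
  · rw [mem_comap] at hn ⊢
    rw [map_mul, map_mul, map_inv]
    exact B.normH _ (incD_comm hzN g) _ hn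

theorem sub_extra :
    Cfsg.IsExtraspecial 2 ↥(Cfsg.pCore 2 ↥(centralizer ({(⟨z, hzN⟩ : ↥N)} : Set ↥N))) ∧
    Nat.card ↥(Cfsg.pCore 2 ↥(centralizer ({(⟨z, hzN⟩ : ↥N)} : Set ↥N))) = 2 ^ 9 := by
  haveI : Fact (Nat.Prime 2) := ⟨Nat.prime_two⟩
  set P := Cfsg.pCore 2 ↥(centralizer ({(⟨z, hzN⟩ : ↥N)} : Set ↥N)) with hP
  have hmem : ∀ d : ↥P, incD hzN d ∈ cent2 z a := fun d => B.J_le (by
    exact (B.core_sub hzN haN hdec).le d.2)
  let f : ↥P →* ↥(cent2 z a) :=
    ((incD hzN).comp P.subtype).codRestrict _ hmem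
  let θ : ↥P →* ↥(centralizer ({B.zQ} : Set (QA a))) := B.toCent.comp f
  have hinj : Function.Injective θ := (injective_iff_map_eq_one θ).2 fun d hd => by
    rcases B.toCent_eq_one.1 hd with e | e
    · exact Subtype.ext (incD_inj hzN (e.trans (map_one _).symm))
    · exact absurd (show a ∈ N from e ▸ (d : ↥(centralizer ({(⟨z, hzN⟩ : ↥N)} : Set ↥N))).1.2) haN
  have hr : θ.range = Cfsg.pCore 2 ↥(centralizer ({B.zQ} : Set (QA a))) := by
    rw [← B.map_core]
    ext y
    constructor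
    · rintro ⟨d, rfl⟩
      refine mem_map_of_mem _ (mem_subgroupOf.2 ?_)
      exact (B.core_sub hzN haN hdec).le d.2
    · rintro ⟨c, hc, rfl⟩
      have key : ∀ c : ↥(cent2 z a), (c : G) ∈ J → (c : G) ∈ N → ∃ d, θ d = B.toCent c := by
        intro c hc hcN
        obtain ⟨d, hd⟩ := exists_incD hzN hcN (mem_cent2.1 c.2).1
        refine ⟨⟨d, by rw [hP, B.core_sub hzN haN hdec, mem_comap, hd]; exact hc⟩, ?_⟩
        exact congrArg B.toCent (Subtype.ext hd)
      rcases hdec c (mem_subgroupOf.1 hc) with h | h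
      · exact key c (mem_subgroupOf.1 hc) h
      · obtain ⟨d, hd⟩ := key (⟨a, B.J_le B.aJ⟩ * c) (J.mul_mem B.aJ (mem_subgroupOf.1 hc)) h
        refine ⟨d, ?_⟩
        rw [hd, map_mul, B.toCent_eq_one.2 (Or.inr rfl), one_mul]
  let eq : ↥P ≃* ↥(Cfsg.pCore 2 ↥(centralizer ({B.zQ} : Set (QA a)))) :=
    (MonoidHom.ofInjective hinj).trans (MulEquiv.subgroupCongr hr)
  exact ⟨H92.isExtraspecial_of_mulEquiv eq.symm B.core_extra.1,
    (Nat.card_congr eq.toEquiv).trans B.core_extra.2⟩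

theorem sub_cent :
    centralizer ((Cfsg.pCore 2 ↥(centralizer ({(⟨z, hzN⟩ : ↥N)} : Set ↥N))) :
      Set ↥(centralizer ({(⟨z, hzN⟩ : ↥N)} : Set ↥N))) ≤
      Cfsg.pCore 2 ↥(centralizer ({(⟨z, hzN⟩ : ↥N)} : Set ↥N)) := by
  haveI : Fact (Nat.Prime 2) := ⟨Nat.prime_two⟩
  let S : Subgroup G :=
    { carrier := {x | x * z = z * x ∧ ∀ q ∈ J, q ∈ N → x * q = q * x}
      one_mem' := ⟨by simp, fun q _ _ => by simp⟩
      mul_mem' := fun {x y} hx hy => ⟨(Commute.mul_left (show Commute x z from hx.1) hy.1).eq,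
        fun q hq hqN => (Commute.mul_left (show Commute x q from hx.2 q hq hqN) (hy.2 q hq hqN)).eq⟩
      inv_mem' := fun {x} hx => ⟨(Commute.inv_left (show Commute x z from hx.1)).eq,
        fun q hq hqN => (Commute.inv_left (show Commute x q from hx.2 q hq hqN)).eq⟩ }
  have hsq : ∀ x ∈ S, x * x ∈ J := by
    intro x hx
    refine B.cent _ (Commute.mul_left (show Commute x z from hx.1) hx.1).eq fun q hq => ?_
    rcases hdec q hq with h | h
    · exact (Commute.mul_left (show Commute x q from hx.2 q hq h) (hx.2 q hq h)).eq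
    · have h1 := hx.2 _ (J.mul_mem B.aJ hq) h
      have hxxa : cj (x * x) a = a := by
        rw [← cj_cj]
        rcases B.fix_or hx.1 with e | e <;> rw [e]
        · exact e
        · rw [cj_mul', e, cj_fix_iff.2 hx.1, mul_assoc, B.z_sq, mul_one]
      have h2 : cj (x * x) (a * q) = a * q :=
        cj_fix_iff.2 (Commute.mul_left (show Commute x (a * q) from h1) h1).eq
      rw [cj_mul', hxxa] at h2
      exact cj_fix_iff.1 (mul_left_cancel h2)
  have hS : S ≤ J := by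
    refine B.core S (fun x => ?_) (fun x hx => hx.1) fun h hh x hx => ?_
    · obtain ⟨k, hk⟩ := B.Jp ⟨_, hsq x x.2⟩
      refine ⟨k + 1, Subtype.ext ?_⟩
      have := congrArg Subtype.val hk
      simp only [SubgroupClass.coe_pow, coe_one] at this ⊢
      rw [pow_succ', pow_mul, pow_two]; exact this
    · have hh' : h⁻¹ * z = z * h⁻¹ := (Commute.inv_left (show Commute h z from hh)).eq
      refine ⟨?_, fun q hq hqN => ?_⟩
      · have e := cj_comm (g := h) hx.1
        rwa [cj_fix_iff.2 hh] at e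
      · have e := cj_comm (g := h) (hx.2 _ (B.normH h⁻¹ hh' q hq)
          ((inferInstance : N.Normal).conj_mem q hqN h⁻¹))
        rwa [cj_inv_left] at e
  intro d hd
  rw [B.core_sub hzN haN hdec] at hd ⊢
  refine mem_comap.2 (hS ⟨incD_comm hzN d, fun q hq hqN => ?_⟩)
  obtain ⟨d', hd'⟩ := exists_incD hzN hqN (B.le q hq).1
  have := congrArg (incD hzN) (mem_centralizer_iff.1 hd d' (by
    show d' ∈ J.comap _
    rw [mem_comap, hd']; exact hq))
  rw [map_mul, map_mul, hd'] at this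
  exact this.symm

/-- The quotient, from a homomorphism covering it. -/
theorem sub_quot {P : Type*} [Group P] (χ : ↥(centralizer ({(⟨z, hzN⟩ : ↥N)} : Set ↥N)) →* P)
    (hs : Function.Surjective χ) (hk : ∀ d, χ d = 1 ↔ incD hzN d ∈ J)
    [(Cfsg.pCore 2 ↥(centralizer ({(⟨z, hzN⟩ : ↥N)} : Set ↥N))).Normal] :
    Nonempty ((↥(centralizer ({(⟨z, hzN⟩ : ↥N)} : Set ↥N)) ⧸
      Cfsg.pCore 2 ↥(centralizer ({(⟨z, hzN⟩ : ↥N)} : Set ↥N))) ≃* P) := by
  have hker : Cfsg.pCore 2 ↥(centralizer ({(⟨z, hzN⟩ : ↥N)} : Set ↥N)) = χ.ker := by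
    ext d
    rw [B.core_sub hzN haN hdec, mem_comap, MonoidHom.mem_ker, hk]
  exact ⟨(QuotientGroup.quotientMulEquivOfEq hker).trans
    (QuotientGroup.quotientKerEquivOfSurjective χ hs)⟩

end Base

end Cfsg.Agent.H2.Fi22z
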