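import Cfsg.Agent.H2.Fi22z.AutSix
import Cfsg.Agent.H2.Fi22z.Split
import Cfsg.Agent.H2.Fi22z.Sub
import Cfsg.Agent.H2.Fi22z.CaseII
import Cfsg.Agent.S3230

/-!
The swapped configuration with the natural shape: the group is the Fischer group, or the centraliser
of `z` and the odd core generate it.
-/

set_option autoImplicit false
set_option linter.style.haveILetI false
set_option maxRecDepth 20000
set_option linter.unusedSectionVars false

namespace Cfsg.Agent.H2.Fi22z

open Cfsg Subgroup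
open scoped commutatorElement
open Cfsg.Agent.H49.USix Cfsg.Agent.H49.UChar
open H76.LocallyS3 (cj cj_cj cj_injective)

universe u v

/-- What is used about the configuration with extraspecial core and full automorphism group. -/
def AutCase (F : Type v) [Field F] (K : Type) [Field K] [Fintype K] (G : Type u) [Group G] (z : G) : Prop :=
  orderOf z = 2 → Cfsg.IsExtraspecial 2 ↥(Cfsg.pCore 2 ↥(centralizer ({z} : Set G))) →
  Nat.card ↥(Cfsg.pCore 2 ↥(centralizer ({z} : Set G))) = 2 ^ 9 →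
  centralizer ((Cfsg.pCore 2 ↥(centralizer ({z} : Set G))) : Set ↥(centralizer ({z} : Set G))) ≤
    Cfsg.pCore 2 ↥(centralizer ({z} : Set G)) →
  ∀ [(Cfsg.pCore 2 ↥(centralizer ({z} : Set G))).Normal],
  ((↥(centralizer ({z} : Set G)) ⧸ Cfsg.pCore 2 ↥(centralizer ({z} : Set G))) ≃*
    MulAut (Cfsg.PSp 2 F)) →
  (∃ G₀ : Subgroup G, G₀.index = 2 ∧ Nonempty (↥G₀ ≃* Cfsg.PSU 6 K 2) ∧
      centralizer (G₀ : Set G) = ⊥) ∨
    centralizer ({z} : Set G) ⊔ Cfsg.oddCore G = ⊤

/-- An odd complement of a centraliser in a normal subgroup goes up. -/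
theorem sup_top_of_normal {G : Type u} [Group G] [Finite G] {z : G} {N T : Subgroup G} [N.Normal]
    (hzN : z ∈ N) (hT : Max2 ⊤ T) (hTz : T ≤ centralizer ({z} : Set G)) (hidx : N.index ∣ 4)
    (h : centralizer ({(⟨z, hzN⟩ : ↥N)} : Set ↥N) ⊔ Cfsg.oddCore ↥N = ⊤) :
    centralizer ({z} : Set G) ⊔ Cfsg.oddCore G = ⊤ := by
  classical
  haveI : Fact (Nat.Prime 2) := ⟨Nat.prime_two⟩
  have hO : (Cfsg.oddCore ↥N).map N.subtype ≤ Cfsg.oddCore G := Cores.le_oddCore (by
    rw [← Nat.card_congr ((Cfsg.oddCore ↥N).equivMapOfInjective _ N.subtype_injective).toEquiv]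
    exact Cores.odd_card_oddCore)
  set U := centralizer ({z} : Set G) ⊔ Cfsg.oddCore G with hU
  have hN : N ≤ U := by
    have h' := congrArg (Subgroup.map N.subtype) h
    rw [Subgroup.map_sup, ← MonoidHom.range_eq_map, range_subtype] at h'
    rw [← h']
    refine sup_le_sup ?_ hO
    rintro _ ⟨x, hx, rfl⟩
    exact mem_centralizer_singleton_iff.2 (congrArg Subtype.val (mem_centralizer_singleton_iff.1 hx))
  have hTU : T ≤ U := hTz.trans le_sup_left
  obtain ⟨P, hP⟩ := hT.sylow
  have hodd : ¬ 2 ∣ T.index := by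
    have h1 := P.not_dvd_index
    rw [show (P : Subgroup ↥(⊤ : Subgroup G)) = _ from hP] at h1
    rwa [← relIndex, relIndex_top_right] at h1
  rw [← index_eq_one]
  refine Nat.eq_one_of_dvd_coprimes ?_ ((index_dvd_of_le hN).trans hidx) (index_dvd_of_le hTU)
  rw [show (4 : ℕ) = 2 ^ 2 from rfl]
  exact Nat.Coprime.pow_left 2 ((Nat.Prime.coprime_iff_not_dvd Nat.prime_two).2 hodd)

theorem commutator_index_two {S : Type*} [Group S] (G₀ : Subgroup S) (h2 : G₀.index = 2)
    (hp : commutator ↥G₀ = ⊤) : G₀ = commutator S := by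
  refine le_antisymm ?_ ?_
  · calc G₀ = (⊤ : Subgroup ↥G₀).map G₀.subtype := by rw [← MonoidHom.range_eq_map, range_subtype]
      _ = (commutator ↥G₀).map G₀.subtype := by rw [hp]
      _ = ⁅G₀, G₀⁆ := by
        rw [_root_.commutator_def, map_commutator, ← MonoidHom.range_eq_map, range_subtype]
      _ ≤ _ := commutator_mono le_top le_top
  · haveI := normal_of_index_eq_two h2
    haveI : Fact (Nat.Prime 2) := ⟨Nat.prime_two⟩
    rw [_root_.commutator_def, commutator_le]
    intro g _ h _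
    rw [← QuotientGroup.eq_one_iff]
    exact (show ⁅(g : S ⧸ G₀), (h : S ⧸ G₀)⁆ = 1 from commutatorElement_eq_one_iff_mul_comm.2
      ((isCyclic_of_prime_card (α := S ⧸ G₀) (p := 2) h2).commGroup.mul_comm _ _))

namespace Base

variable {G : Type u} [Group G] [Finite G] {z a : G} {J E : Subgroup G} (B : Base z a J E)
include B

theorem natural_swap {F : Type v} [Field F] [Fintype F] (hF : Fintype.card F = 3)
    [(Cfsg.pCore 2 ↥(centralizer ({z} : Set G))).Normal]
    (hJ : J = (Cfsg.pCore 2 ↥(centralizer ({z} : Set G))).map (centralizer ({z} : Set G)).subtype)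
    (e : (↥(centralizer ({z} : Set G)) ⧸ Cfsg.pCore 2 ↥(centralizer ({z} : Set G))) ≃*
      MulAut (Cfsg.PSp 2 F))
    (χ : ↥(cent2 z a) →* Cfsg.PSp 2 F) (hs : Function.Surjective χ)
    (hk : ∀ c, χ c = 1 ↔ (c : G) ∈ J)
    (hswap : ∃ h : G, h * z = z * h ∧ cj h a = a * z)
    (P : Pre B.zQ B.JQ) (h0 : Nat.card ↥P.R.P0 = 1)
    (h4 : ∀ k : Fin 13, (k : ℕ) < 4 → Nat.card ↥(P.R.P k) = 4)
    (h1 : ∀ k : Fin 13, 4 ≤ (k : ℕ) → Nat.card ↥(P.R.P k) = 1)
    (h31 : ∀ (N : Subgroup G) (hzN : z ∈ N) (K : Type) [Field K] [Fintype K],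
      Fintype.card K = 4 → AutCase F K ↥N ⟨z, hzN⟩) :
    centralizer ({z} : Set G) ⊔ Cfsg.oddCore G = ⊤ ∨ Cfsg.Spor.IsoFi22 G := by
  classical
  haveI : Fact (Nat.Prime 2) := ⟨Nat.prime_two⟩
  obtain ⟨Co⟩ := P.core h0 h4 h1
  obtain ⟨M⟩ := B.mod_of_core Co
  have hE : Cfsg.IsExtraspecial 2 ↥B.JQ :=
    H41.LFi.isExtraspecial_of_equiv (equivMapOfInjective _ _
      (centralizer ({B.zQ} : Set (QA a))).subtype_injective) B.core_extra.1
  rcases core_main Co hE with ⟨K, iK, iK', hK, ⟨eQ⟩⟩ | hX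
  swap
  · exact Or.inl (B.natural_degenerate P h0 h4 h1 hswap hX)
  rcases B.perfect_or_split hK eQ hswap with hFi | haL
  · exact Or.inr hFi
  left
  haveI := Cfsg.Agent.S0283.result (F := K) (q := 2) (by rw [hK]; norm_num) 6 (by norm_num) (by norm_num)
  haveI : IsSimpleGroup (QA a) := eQ.isSimpleGroup
  haveI hSp := Cfsg.Agent.S0270.result (F := F) 2 le_rfl (fun _ => by omega)
  -- the simple groups are perfect and centre free
  have hcU : center (Cfsg.PSU 6 K 2) = ⊥ := by
    rw [eq_bot_iff]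
    intro s hs'
    have : eQ.symm s ∈ center (QA a) := mem_center_iff.2 fun t => eQ.injective (by
      rw [map_mul, map_mul, eQ.apply_symm_apply]
      exact mem_center_iff.1 hs' (eQ t))
    rw [B.QA_center, mem_bot] at this
    rw [mem_bot, ← eQ.apply_symm_apply s, this, map_one]
  have hpU : commutator (Cfsg.PSU 6 K 2) = ⊤ := by
    refine (IsSimpleGroup.eq_bot_or_eq_top_of_normal _ inferInstance).resolve_left fun h => ?_
    have ht : center (Cfsg.PSU 6 K 2) = ⊤ := eq_top_iff.2 fun x _ => mem_center_iff.2 fun y => by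
      have hm : ⁅y, x⁆ ∈ commutator (Cfsg.PSU 6 K 2) := by
        rw [_root_.commutator_def]; exact commutator_mem_commutator (mem_top _) (mem_top _)
      rwa [h, mem_bot, commutatorElement_eq_one_iff_mul_comm] at hm
    exact bot_ne_top (hcU.symm.trans ht)
  have hpS : commutator (Cfsg.PSp 2 F) = ⊤ := by
    refine (IsSimpleGroup.eq_bot_or_eq_top_of_normal _ inferInstance).resolve_left fun h => ?_
    obtain ⟨e'⟩ := su_equiv_psp hF
    have hc : center SU4 = ⊤ := eq_top_iff.2 fun x _ => mem_center_iff.2 fun y => e'.injective (by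
      have hm : ⁅e' y, e' x⁆ ∈ commutator (Cfsg.PSp 2 F) := by
        rw [_root_.commutator_def]; exact commutator_mem_commutator (mem_top _) (mem_top _)
      rw [h, mem_bot, commutatorElement_eq_one_iff_mul_comm] at hm
      rw [map_mul, map_mul]; exact hm)
    rw [center_bot] at hc
    haveI := Subgroup.subsingleton_iff.1 (subsingleton_of_bot_eq_top hc)
    have h' := Nat.card_eq_one_iff_unique.2 ⟨(inferInstance : Subsingleton SU4), ⟨1⟩⟩
    rw [su4_card] at h'
    norm_num at h'
  obtain ⟨N, hNn, haN, hNc, hNi⟩ := B.exists_N M χ hs hk hpS hswap haL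
  haveI := hNn
  have hLN : ∀ x ∈ LZero z a, x ∈ N := fun x hx => hNc (commutator_mono le_top le_top hx)
  have hzN : z ∈ N := hLN z B.z_LZero
  have hdec0 : ∀ x ∈ cent2 z a, x ∈ N ∨ a * x ∈ N := fun x hx =>
    (B.LZero_sup M χ hs hk hpS hx).imp (hLN x) (hLN _)
  have hdec : ∀ q ∈ J, q ∈ N ∨ a * q ∈ N := fun q hq => hdec0 q (B.J_le hq)
  obtain ⟨T, hJT, hTz, hT, -, -, -, -⟩ := B.exists_sylows hswap
  have hgen : centralizer ({z} : Set G) ⊔ N = ⊤ := by
    obtain ⟨Q, hQ⟩ := hT.sylow
    have hodd : ¬ 2 ∣ T.index := by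
      have h' := Q.not_dvd_index
      rw [show (Q : Subgroup ↥(⊤ : Subgroup G)) = _ from hQ] at h'
      rwa [← relIndex, relIndex_top_right] at h'
    rw [← index_eq_one]
    refine Nat.eq_one_of_dvd_coprimes ?_
      ((index_dvd_of_le le_sup_right).trans hNi) (index_dvd_of_le (hTz.trans le_sup_left))
    rw [show (4 : ℕ) = 2 ^ 2 from rfl]
    exact Nat.Coprime.pow_left 2 ((Nat.Prime.coprime_iff_not_dvd Nat.prime_two).2 hodd)
  haveI : (Cfsg.pCore 2 ↥(centralizer ({(⟨z, hzN⟩ : ↥N)} : Set ↥N))).Normal := pCore_normal 2 _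
  have hzo : orderOf (⟨z, hzN⟩ : ↥N) = 2 := by
    rw [← orderOf_injective N.subtype N.subtype_injective]; exact B.z_ord
  obtain ⟨hx1, hx2⟩ := B.sub_extra hzN haN hdec
  have hx3 := B.sub_cent hzN haN hdec
  have hnotcase : ∀ x, x * z = z * x → x ∈ N ∨ a * x ∈ N → cj x a = a * z →
      ∃ b ∈ N, b * z = z * b ∧ cj b a = a * z := by
    intro x hx h hxa
    rcases h with h | h
    · exact ⟨x, h, hx, hxa⟩
    · refine ⟨_, h, (Commute.mul_left (show Commute a z from B.az) hx).eq, ?_⟩
      rw [← cj_cj, hxa, cj_mul', cj_fix_iff.2 B.az, cj_fix_iff.2 rfl]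
  by_cases hsw : ∃ b ∈ N, b * z = z * b ∧ cj b a = a * z
  · -- the full automorphism group
    obtain ⟨b, hbN, hbz, hba⟩ := hsw
    have hdec1 : ∀ x, x * z = z * x → x ∈ N ∨ a * x ∈ N := by
      intro x hx
      rcases B.fix_or hx with h | h
      · exact hdec0 x (mem_cent2.2 ⟨hx, cj_fix_iff.1 h⟩)
      · have hbx : b * x ∈ cent2 z a := mem_cent2.2
          ⟨(Commute.mul_left (show Commute b z from hbz) hx).eq, cj_fix_iff.1 (by
            rw [← cj_cj, h, cj_mul', hba, cj_fix_iff.2 hbz, mul_assoc, B.z_sq, mul_one])⟩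
        rcases hdec0 _ hbx with h' | h'
        · left
          have := N.mul_mem (N.inv_mem hbN) h'
          rwa [inv_mul_cancel_left] at this
        · right
          have := N.mul_mem (hNn.conj_mem _ (N.inv_mem hbN) a) h'
          rwa [show a * b⁻¹ * a⁻¹ * (a * (b * x)) = a * x by group] at this
    let C := centralizer ({z} : Set G)
    let ψ : ↥C →* MulAut (Cfsg.PSp 2 F) := e.toMonoidHom.comp (QuotientGroup.mk' _)
    have hψk : ∀ c : ↥C, ψ c = 1 ↔ (c : G) ∈ J := fun c => by
      show e (QuotientGroup.mk c) = 1 ↔ _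
      rw [map_eq_one_iff e e.injective, QuotientGroup.eq_one_iff, hJ]
      exact ⟨fun h => ⟨c, h, rfl⟩, fun ⟨d, hd, h⟩ => by rwa [show c = d from Subtype.ext h.symm]⟩
    let ι : ↥(centralizer ({(⟨z, hzN⟩ : ↥N)} : Set ↥N)) →* ↥C :=
      (incD hzN).codRestrict C fun d => mem_centralizer_singleton_iff.2 (incD_comm hzN d)
    obtain ⟨eN⟩ := B.sub_quot hzN haN hdec (ψ.comp ι) (by
      intro y
      obtain ⟨c, rfl⟩ := (e.surjective.comp (QuotientGroup.mk'_surjective _)) y
      have hcz : (c : G) * z = z * c := mem_centralizer_singleton_iff.1 c.2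
      rcases hdec1 _ hcz with h | h
      · obtain ⟨d, hd⟩ := exists_incD hzN h hcz
        exact ⟨d, congrArg ψ (Subtype.ext hd : ι d = c)⟩
      · obtain ⟨d, hd⟩ := exists_incD hzN h (Commute.mul_left (show Commute a z from B.az) hcz).eq
        let aC : ↥C := ⟨a, mem_centralizer_singleton_iff.2 B.az⟩
        refine ⟨d, ?_⟩
        show ψ (ι d) = ψ c
        rw [show ι d = aC * c from Subtype.ext hd, map_mul, (hψk aC).2 B.aJ, one_mul])
      (fun d => hψk _)
    have hidx : N.index = 2 := by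
      rw [index_eq_two_iff]
      refine ⟨a, fun g => ?_⟩
      have hg : g ∈ N ∨ g * a ∈ N := by
        obtain ⟨c, hc, n, hn, rfl⟩ := (mem_sup_of_normal_right.1
          (hgen.symm ▸ mem_top g : g ∈ centralizer ({z} : Set G) ⊔ N))
        have hca : c ∈ N ∨ c * a ∈ N := (hdec1 c (mem_centralizer_singleton_iff.1 hc)).imp id fun h => by
          have := hNn.conj_mem _ h a⁻¹
          rwa [show a⁻¹ * (a * c) * a⁻¹⁻¹ = c * a by group] at this
        rcases hca with h | h
        · exact Or.inl (N.mul_mem h hn)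
        · right
          have := N.mul_mem h (hNn.conj_mem _ hn a⁻¹)
          rwa [show c * a * (a⁻¹ * n * a⁻¹⁻¹) = c * n * a by group] at this
      rcases hg with h | h
      · exact Or.inr ⟨h, fun h' => haN (by
          have := N.mul_mem (N.inv_mem h) h'
          rwa [inv_mul_cancel_left] at this)⟩
      · exact Or.inl ⟨h, fun h' => haN (by
          have := N.mul_mem (N.inv_mem h') h
          rwa [inv_mul_cancel_left] at this)⟩
    rcases h31 N hzN K hK hzo hx1 hx2 hx3 eN with ⟨G₁, hG₁, ⟨e₁⟩, hc₁⟩ | hd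
    · exfalso
      have hp : commutator ↥G₁ = ⊤ := by
        have := congrArg (Subgroup.map e₁.symm.toMonoidHom) hpU
        rwa [_root_.commutator_def, map_commutator,
          map_top_of_surjective _ e₁.symm.surjective, ← _root_.commutator_def] at this
      have hG₁c := commutator_index_two G₁ hG₁ hp
      haveI : G₁.Characteristic := hG₁c ▸ (inferInstance : (_root_.commutator ↥N).Characteristic)
      refine B.no_normal_six hswap hK (G₀ := G₁.map N.subtype) hzN ?_
        ((equivMapOfInjective _ _ N.subtype_injective).symm.trans e₁) ?_ (Or.inl hidx) hNn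
      · rw [index_map_subtype, hG₁, hidx]
      · rw [eq_bot_iff]
        rintro x ⟨hx, hxN⟩
        have : (⟨x, hxN⟩ : ↥N) ∈ centralizer (G₁ : Set ↥N) := mem_centralizer_iff.2 fun y hy =>
          Subtype.ext (mem_centralizer_iff.1 hx y ⟨y, hy, rfl⟩)
        rw [hc₁, mem_bot] at this
        exact congrArg Subtype.val this
    · exact sup_top_of_normal hzN hT hTz hNi hd
  · -- the inner automorphisms
    let ι : ↥(centralizer ({(⟨z, hzN⟩ : ↥N)} : Set ↥N)) →* ↥(cent2 z a) :=
      (incD hzN).codRestrict _ fun d => mem_cent2.2 ⟨incD_comm hzN d, cj_fix_iff.1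
        ((B.fix_or (incD_comm hzN d)).resolve_right fun h => hsw ⟨_, d.1.2, incD_comm hzN d, h⟩)⟩
    obtain ⟨eN⟩ := B.sub_quot hzN haN hdec (χ.comp ι) (by
      intro y
      obtain ⟨c, rfl⟩ := hs y
      have hc := mem_cent2.1 c.2
      rcases hdec0 _ c.2 with h | h
      · obtain ⟨d, hd⟩ := exists_incD hzN h hc.1
        exact ⟨d, congrArg χ (Subtype.ext hd : ι d = c)⟩
      · obtain ⟨d, hd⟩ := exists_incD hzN h (Commute.mul_left (show Commute a z from B.az) hc.1).eq
        refine ⟨d, ?_⟩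
        show χ (ι d) = χ c
        rw [show ι d = ⟨a, B.J_le B.aJ⟩ * c from Subtype.ext hd, map_mul, (hk _).2 B.aJ, one_mul])
      (fun d => hk _)
    rcases Cfsg.Agent.S3230.result (⟨z, hzN⟩ : ↥N) hzo hF hK hx1 hx2 hx3 eN with he₁ | hd
    · obtain ⟨e₁⟩ := he₁
      exfalso
      have hidx : N.index = 4 := by
        obtain ⟨i, hi, hi'⟩ := (Nat.dvd_prime_pow Nat.prime_two).1 (show N.index ∣ 2 ^ 2 from hNi)
        interval_cases i
        · exact absurd (index_eq_one.1 hi' ▸ mem_top a) haN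
        · exfalso
          obtain ⟨h, hh, hha⟩ := hswap
          refine hsw (hnotcase h hh ?_ hha)
          rw [mul_mem_iff_of_index_two hi']
          by_cases h' : h ∈ N
          · exact Or.inl h'
          · exact Or.inr (iff_of_false haN h')
        · exact hi'
      refine B.no_normal_six hswap hK (G₀ := N) hzN hidx e₁ ?_ (Or.inr hidx) hNn
      rw [eq_bot_iff]
      rintro x ⟨hx, hxN⟩
      have : e₁ ⟨x, hxN⟩ ∈ center (Cfsg.PSU 6 K 2) := mem_center_iff.2 fun y => by
        obtain ⟨w, rfl⟩ := e₁.surjective y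
        rw [← map_mul, ← map_mul]
        exact congrArg e₁ (Subtype.ext (mem_centralizer_iff.1 hx w w.2))
      rw [hcU, mem_bot, map_eq_one_iff e₁ e₁.injective] at this
      exact congrArg Subtype.val this
    · exact sup_top_of_normal hzN hT hTz hNi hd

end Base

end Cfsg.Agent.H2.Fi22z
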