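import Cfsg.Agent.H2.Fi22z.Defs
import Cfsg.Agent.H49.WeakClosure
import Cfsg.Agent.H92.ExtraIso

/-!
The two-central involution configuration: the centraliser of the four-group `⟨z, a⟩` and its image
in the centraliser of `a` modulo `⟨a⟩`.
-/

set_option autoImplicit false
set_option linter.style.haveILetI false
set_option maxRecDepth 20000
set_option linter.unusedSectionVars false

namespace Cfsg.Agent.H2.Fi22z

open Cfsg Subgroup
open Cfsg.Agent.H49.USix
open Cfsg.Agent.H92.ExtraForm (zp FormMap exists_formMap)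
open H76.LocallyS3 (cj cj_cj cj_injective)

/-- The centraliser of `z` has core `J = ⟨a⟩ × E`. -/
structure Base {G : Type*} [Group G] (z a : G) (J E : Subgroup G) : Prop where
  z_ord : orderOf z = 2
  a_sq : a * a = 1
  a_ne : a ≠ 1
  a_ne_z : a ≠ z
  zE : z ∈ E
  aJ : a ∈ J
  E_le : E ≤ J
  aE : a ∉ E
  dec : ∀ q ∈ J, q ∈ E ∨ a * q ∈ E
  E_extra : Cfsg.IsExtraspecial 2 ↥E
  E_card : Nat.card ↥E = 2 ^ 9
  le : ∀ q ∈ J, InC z a q
  Jp : IsPGroup 2 ↥J
  normH : ∀ h : G, h * z = z * h → ∀ q ∈ J, cj h q ∈ J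
  cent : ∀ x : G, x * z = z * x → (∀ q ∈ J, x * q = q * x) → x ∈ J
  core : ∀ N : Subgroup G, IsPGroup 2 ↥N → (∀ n ∈ N, n * z = z * n) →
    (∀ h : G, h * z = z * h → ∀ n ∈ N, cj h n ∈ N) → N ≤ J

theorem mem_zpowers_invol {G : Type*} [Group G] {a x : G} (ha : a * a = 1) :
    x ∈ zpowers a ↔ x = 1 ∨ x = a := by
  refine ⟨?_, ?_⟩
  · rintro ⟨k, rfl⟩
    have h : a ^ (2 : ℤ) = 1 := by rw [zpow_two, ha]
    rcases Int.even_or_odd k with ⟨j, rfl⟩ | ⟨j, rfl⟩
    · left; show a ^ (j + j) = 1; rw [← two_mul, zpow_mul, h, one_zpow]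
    · right; show a ^ (2 * j + 1) = a; rw [zpow_add_one, zpow_mul, h, one_zpow, one_mul]
  · rintro (rfl | rfl)
    exacts [one_mem _, mem_zpowers _]

namespace Base

variable {G : Type*} [Group G] [Finite G] {z a : G} {J E : Subgroup G} (B : Base z a J E)
include B

theorem z_sq : z * z = 1 := by rw [← pow_two, ← B.z_ord, pow_orderOf_eq_one]

theorem z_ne : z ≠ 1 := fun e => by
  have := B.z_ord; rw [e, orderOf_one] at this; norm_num at this

theorem zJ : z ∈ J := B.E_le B.zE

theorem az : a * z = z * a := (B.le a B.aJ).1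

theorem az_ne_one : a * z ≠ 1 := fun e =>
  B.a_ne_z (by rw [eq_inv_of_mul_eq_one_left e, inv_eq_of_mul_eq_one_right B.z_sq])

theorem az_ne_z : a * z ≠ z := fun e => B.a_ne (by simpa using e)

theorem az_ne_a : a * z ≠ a := fun e => B.z_ne (by simpa using e)

theorem az_sq : a * z * (a * z) = 1 := by
  rw [mul_assoc, ← mul_assoc z, ← B.az, mul_assoc a, B.z_sq, mul_one, B.a_sq]

theorem form : ∀ q ∈ E, ∀ r ∈ E,
    (q * q = 1 ∨ q * q = z) ∧ (r * q = q * r ∨ r * q = q * r * z) := by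
  intro q hq r hr
  obtain ⟨n, hn⟩ : ∃ n, n = (⟨z, B.zE⟩ : ↥E) := ⟨_, rfl⟩
  have hnc : n ∈ center ↥E := mem_center_iff.2 fun g => Subtype.ext (by
    rw [hn]; exact (B.le g (B.E_le g.2)).1)
  have hn1 : n ≠ 1 := fun e => B.z_ne (by rw [hn] at e; exact congrArg Subtype.val e)
  rcases exists_formMap B.E_extra 4 (by norm_num) B.E_card with h | h
  all_goals
    obtain ⟨Fm⟩ := h
    have hz : Fm.z = n := ((Fm.mem_center n).1 hnc |>.resolve_left hn1).symm
    have hzp : ∀ t : ZMod 2, ((zp Fm.z t : ↥E) : G) = 1 ∨ ((zp Fm.z t : ↥E) : G) = z := fun t => by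
      unfold zp; split_ifs
      · exact Or.inl rfl
      · right; rw [hz, hn]
    refine ⟨?_, ?_⟩
    · have h := congrArg Subtype.val (Fm.sq ⟨q, hq⟩)
      simp only [coe_mul] at h
      rw [h]; exact hzp _
    · have h := congrArg Subtype.val (Fm.comm ⟨q, hq⟩ ⟨r, hr⟩)
      simp only [coe_mul] at h
      rcases hzp _ with e | e <;> rw [e] at h
      · left; rw [h, mul_one]
      · exact Or.inr h

theorem sq {q : G} (hq : q ∈ J) : q * q = 1 ∨ q * q = z := by
  rcases B.dec q hq with h | h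
  · exact (B.form q h q h).1
  · have := (B.form _ h _ h).1
    rwa [show a * q * (a * q) = q * q from by
      rw [mul_assoc, ← mul_assoc q, (B.le q hq).2, mul_assoc a, ← mul_assoc a, B.a_sq, one_mul]] at this

theorem comm {q r : G} (hq : q ∈ J) (hr : r ∈ J) : r * q = q * r ∨ r * q = q * r * z := by
  have hc : ∀ x ∈ J, Commute x a := fun x hx => (B.le x hx).2
  have key : ∀ q r : G, q ∈ E → r ∈ J → r * q = q * r ∨ r * q = q * r * z := by
    intro q r hq hr
    rcases B.dec r hr with h | h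
    · exact (B.form q hq r h).2
    · have e : q * (a * r) = a * (q * r) := by
        rw [← mul_assoc, (hc q (B.E_le hq)).eq, mul_assoc]
      rcases (B.form q hq _ h).2 with h' | h' <;> rw [e, mul_assoc] at h'
      · exact Or.inl (mul_left_cancel h')
      · right; exact mul_left_cancel (h'.trans (by group))
  rcases B.dec q hq with h | h
  · exact key q r h hr
  · have e : r * (a * q) = a * (r * q) := by rw [← mul_assoc, (hc r hr).eq, mul_assoc]
    rcases key _ r h hr with h' | h' <;> rw [e, mul_assoc] at h'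
    · exact Or.inl (mul_left_cancel h')
    · right; exact mul_left_cancel (h'.trans (by group))

theorem nonab : ∃ q ∈ J, ∃ r ∈ J, r * q = q * r * z := by
  by_contra hcon
  push Not at hcon
  have h : ∀ g : ↥E, g ∈ center ↥E := fun g => mem_center_iff.2 fun r => Subtype.ext
    ((B.comm (B.E_le g.2) (B.E_le r.2)).resolve_right (hcon _ (B.E_le g.2) _ (B.E_le r.2)))
  have h2 := B.E_extra.2
  rw [show center ↥E = ⊤ from eq_top_iff.2 fun g _ => h g, card_top, B.E_card] at h2
  norm_num at h2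

theorem center_J {x : G} (hx : x ∈ J) (h : ∀ q ∈ J, x * q = q * x) : InV z a x := by
  have hc : ∀ y ∈ E, (∀ q ∈ E, y * q = q * y) → y = 1 ∨ y = z := by
    intro y hy hyc
    have h2 : Nat.card (center ↥E) = 2 := B.E_extra.2
    obtain ⟨⟨w, hw⟩, -, huniq⟩ := (Nat.card_eq_two_iff' (⟨1, one_mem _⟩ : center ↥E)).mp h2
    have hzc : (⟨z, B.zE⟩ : ↥E) ∈ center ↥E :=
      mem_center_iff.2 fun g => Subtype.ext (B.le g (B.E_le g.2)).1
    have hyE : (⟨y, hy⟩ : ↥E) ∈ center ↥E :=
      mem_center_iff.2 fun g => Subtype.ext (hyc g g.2).symm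
    by_cases h1 : y = 1
    · exact Or.inl h1
    · have e1 := huniq ⟨_, hzc⟩ fun e => B.z_ne (congrArg (fun v : center ↥E => ((v : ↥E) : G)) e)
      have e2 := huniq ⟨_, hyE⟩ fun e => h1 (congrArg (fun v : center ↥E => ((v : ↥E) : G)) e)
      exact Or.inr (congrArg (fun v : center ↥E => ((v : ↥E) : G)) (e2.trans e1.symm))
  rcases B.dec x hx with hE | hE
  · rcases hc x hE fun q hq => h q (B.E_le hq) with e | e
    exacts [Or.inl e, Or.inr (Or.inl e)]
  · have h' := hc _ hE fun q hq => by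
      rw [mul_assoc, h q (B.E_le hq), ← mul_assoc, ← (B.le q (B.E_le hq)).2, mul_assoc]
    have hx' : x = a * (a * x) := by rw [← mul_assoc, B.a_sq, one_mul]
    rcases h' with e | e
    · right; right; left; rw [hx', e, mul_one]
    · right; right; right; rw [hx', e]

theorem fix_or {h : G} (hh : h * z = z * h) : cj h a = a ∨ cj h a = a * z := by
  have hzf : cj h z = z := cj_fix_iff.2 hh
  have hh' : h⁻¹ * z = z * h⁻¹ := (Commute.inv_left (show Commute h z from hh)).eq
  have hV : InV z a (cj h a) := B.center_J (B.normH h hh a B.aJ) fun q hq => by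
    have hq' := B.normH h⁻¹ hh' q hq
    have e := (B.le _ hq').2
    conv_lhs => rw [show q = cj h (cj h⁻¹ q) from by rw [cj_cj, mul_inv_cancel, cj_one']]
    conv_rhs => rw [show q = cj h (cj h⁻¹ q) from by rw [cj_cj, mul_inv_cancel, cj_one']]
    rw [← cj_mul', ← cj_mul', e]
  rcases hV with e | e | e | e
  · exact absurd (by simpa [cj] using e) B.a_ne
  · exact absurd (cj_injective h (e.trans hzf.symm)) B.a_ne_z
  · exact Or.inl e
  · exact Or.inr e

/-- The centraliser of `z` and `a`. -/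
theorem cj_inC {h k : G} (hh : h * z = z * h) (hk : InC z a k) : InC z a (cj h k) := by
  have hh' : h⁻¹ * z = z * h⁻¹ := (Commute.inv_left (show Commute h z from hh)).eq
  refine ⟨?_, ?_⟩
  · have e : cj h (k * z) = cj h (z * k) := congrArg _ hk.1
    rwa [cj_mul', cj_mul', cj_fix_iff.2 hh] at e
  · have hka : k * cj h⁻¹ a = cj h⁻¹ a * k := by
      rcases B.fix_or hh' with e | e <;> rw [e]
      · exact hk.2
      · exact (Commute.mul_right (show Commute k a from hk.2) hk.1).eq
    have e : cj h (k * cj h⁻¹ a) = cj h (cj h⁻¹ a * k) := congrArg _ hka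
    rwa [cj_mul' h k, cj_mul' h _ k, cj_cj, mul_inv_cancel, cj_one'] at e

end Base

/-- The centraliser of the four-group. -/
def cent2 {G : Type*} [Group G] (z a : G) : Subgroup G := centralizer ({z} : Set G) ⊓ centralizer ({a} : Set G)

theorem mem_cent2 {G : Type*} [Group G] {z a h : G} : h ∈ cent2 z a ↔ InC z a h := by
  simp [cent2, InC, mem_centralizer_singleton_iff]

theorem map_cj_mem {G : Type*} [Group G] {N : Subgroup G} {h x : G} (hx : x ∈ N) :
    cj h x ∈ N.map (MulAut.conj h).toMonoidHom := ⟨x, hx, rfl⟩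

namespace Base

variable {G : Type*} [Group G] [Finite G] {z a : G} {J E : Subgroup G} (B : Base z a J E)
include B

theorem J_le : J ≤ cent2 z a := fun q hq => mem_cent2.2 (B.le q hq)

theorem conj_core_le {h : G} (hmap : ∀ k, InC z a k → InC z a (cj h k))
    (hinv : ∀ k, InC z a k → InC z a (cj h⁻¹ k)) :
    (pCoreOf 2 (cent2 z a)).map (MulAut.conj h).toMonoidHom ≤ pCoreOf 2 (cent2 z a) := by
  haveI : Fact (Nat.Prime 2) := ⟨Nat.prime_two⟩
  refine H49.le_pCoreOf ?_ ((H49.pCoreOf_isPGroup _).map _) ?_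
  · rintro _ ⟨x, hx, rfl⟩
    exact mem_cent2.2 (hmap x (mem_cent2.1 (H49.pCoreOf_le _ hx)))
  · intro k hk
    refine mem_normalizer_iff.2 fun y => ?_
    have key : ∀ k ∈ cent2 z a, ∀ y, y ∈ (pCoreOf 2 (cent2 z a)).map (MulAut.conj h).toMonoidHom →
        k * y * k⁻¹ ∈ (pCoreOf 2 (cent2 z a)).map (MulAut.conj h).toMonoidHom := by
      rintro k hk _ ⟨x, hx, rfl⟩
      have hk' : cj h⁻¹ k ∈ cent2 z a := mem_cent2.2 (hinv k (mem_cent2.1 hk))
      refine ⟨cj h⁻¹ k * x * (cj h⁻¹ k)⁻¹,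
        (mem_normalizer_iff.1 (H49.le_normalizer_pCoreOf _ hk') x).1 hx, ?_⟩
      simp [cj, mul_assoc]
    refine ⟨key k hk y, fun hy => ?_⟩
    have := key k⁻¹ (inv_mem hk) _ hy
    simpa [mul_assoc] using this

theorem pCore_cent2 : pCoreOf 2 (cent2 z a) = J := by
  haveI : Fact (Nat.Prime 2) := ⟨Nat.prime_two⟩
  refine le_antisymm (B.core _ (H49.pCoreOf_isPGroup _)
    (fun n hn => (mem_cent2.1 (H49.pCoreOf_le _ hn)).1) fun h hh n hn => ?_) ?_
  · refine B.conj_core_le (fun k hk => B.cj_inC hh hk) (fun k hk => B.cj_inC ?_ hk) (map_cj_mem hn)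
    exact (Commute.inv_left (show Commute h z from hh)).eq
  · refine H49.le_pCoreOf B.J_le B.Jp fun k hk => mem_normalizer_iff.2 fun y => ?_
    have hk' := (mem_cent2.1 hk).1
    refine ⟨fun hy => B.normH k hk' y hy, fun hy => ?_⟩
    have := B.normH k⁻¹ (Commute.inv_left (show Commute k z from hk')).eq _ hy
    simpa [cj, mul_assoc] using this

/-- An element acting trivially on the core modulo `⟨a⟩` lies in the core. -/
theorem cent_mod {x : G} (hx : InC z a x) (h : ∀ q ∈ J, cj x q = q ∨ cj x q = a * q) : x ∈ J := by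
  haveI : Fact (Nat.Prime 2) := ⟨Nat.prime_two⟩
  let N : Subgroup G :=
    { carrier := {x | InC z a x ∧ ∀ q ∈ J, cj x q = q ∨ cj x q = a * q}
      one_mem' := ⟨by simp [InC], fun q _ => Or.inl (by simp [cj])⟩
      mul_mem' := by
        rintro x y ⟨hx, hx'⟩ ⟨hy, hy'⟩
        refine ⟨⟨(Commute.mul_left (show Commute x z from hx.1) hy.1).eq,
          (Commute.mul_left (show Commute x a from hx.2) hy.2).eq⟩, fun q hq => ?_⟩
        have hxa : cj x a = a := cj_fix_iff.2 hx.2
        rw [← cj_cj]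
        rcases hy' q hq with e | e <;> rcases hx' q hq with e' | e' <;>
          simp only [e, e', cj_mul', hxa, ← mul_assoc, B.a_sq, one_mul, true_or,
            or_true]
      inv_mem' := by
        rintro x ⟨hx, hx'⟩
        refine ⟨⟨(Commute.inv_left (show Commute x z from hx.1)).eq,
          (Commute.inv_left (show Commute x a from hx.2)).eq⟩, fun q hq => ?_⟩
        have hxa : cj x⁻¹ a = a := cj_fix_iff.2 (Commute.inv_left (show Commute x a from hx.2)).eq
        have e0 : cj x⁻¹ (cj x q) = q := by rw [cj_cj, inv_mul_cancel, cj_one']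
        rcases hx' q hq with e | e <;> rw [e] at e0
        · exact Or.inl e0
        · right
          rw [cj_mul', hxa] at e0
          conv_rhs => rw [← e0]
          rw [← mul_assoc, B.a_sq, one_mul] }
  have hN : N ≤ pCoreOf 2 (cent2 z a) := by
    refine H49.le_pCoreOf (fun y hy => mem_cent2.2 hy.1) (fun y => ?_) fun k hk =>
      mem_normalizer_iff.2 fun y => ?_
    · obtain ⟨hy, hy'⟩ := y.2
      have hJ : (y : G) * y ∈ J := by
        refine B.cent _ (Commute.mul_left (show Commute (y : G) z from hy.1) hy.1).eq fun q hq => ?_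
        refine cj_fix_iff.1 ?_
        rw [← cj_cj]
        rcases hy' q hq with e | e
        · rw [e, e]
        · rw [e, cj_mul', cj_fix_iff.2 hy.2, e, ← mul_assoc, B.a_sq, one_mul]
      obtain ⟨k, hk⟩ := B.Jp ⟨_, hJ⟩
      refine ⟨k + 1, Subtype.ext ?_⟩
      have := congrArg Subtype.val hk
      simp only [SubgroupClass.coe_pow, coe_one] at this ⊢
      rw [pow_succ', pow_mul, pow_two]; exact this
    · have key : ∀ k ∈ cent2 z a, ∀ y, y ∈ N → k * y * k⁻¹ ∈ N := by
        rintro k hk y ⟨hy, hy'⟩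
        have hk1 := mem_cent2.1 hk
        have hk2 := mem_cent2.1 (inv_mem hk)
        refine ⟨B.cj_inC hk1.1 hy, fun q hq => ?_⟩
        have e0 : cj (k * y * k⁻¹) q = cj k (cj y (cj k⁻¹ q)) := by rw [cj_cj, cj_cj, mul_assoc]
        rw [e0]
        rcases hy' _ (B.normH k⁻¹ hk2.1 q hq) with e | e <;> rw [e]
        · left; rw [cj_cj, mul_inv_cancel, cj_one']
        · right; rw [cj_mul', cj_cj, mul_inv_cancel, cj_one', cj_fix_iff.2 hk1.2]
      refine ⟨key k hk y, fun hy => ?_⟩
      have := key k⁻¹ (inv_mem hk) _ hy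
      simpa [mul_assoc] using this
  exact B.pCore_cent2 ▸ hN (show x ∈ N from ⟨hx, h⟩)

/-- `z` is not conjugate to `a z` in the centraliser of `a`. -/
theorem az_not {x : G} (hx : x * a = a * x) : cj x z ≠ a * z := by
  intro he
  have ha : cj x a = a := cj_fix_iff.2 hx
  have ha' : cj x⁻¹ a = a := cj_fix_iff.2 (Commute.inv_left (show Commute x a from hx)).eq
  have he' : cj x⁻¹ z = a * z := by
    have e : cj x⁻¹ (cj x z) = z := by rw [cj_cj, inv_mul_cancel, cj_one']
    rw [he, cj_mul', ha'] at e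
    conv_rhs => rw [← e, ← mul_assoc, B.a_sq, one_mul]
  have hmap : ∀ y : G, cj y a = a → cj y z = a * z → ∀ k, InC z a k → InC z a (cj y k) := by
    intro y hya hyz k hk
    have e1 : cj y k * a = a * cj y k := by
      have e := congrArg (cj y) hk.2; rwa [cj_mul', cj_mul', hya] at e
    have e2 : cj y k * (a * z) = a * z * cj y k := by
      have e := congrArg (cj y) hk.1; rwa [cj_mul', cj_mul', hyz] at e
    refine ⟨?_, e1⟩
    rw [show z = a * (a * z) from by rw [← mul_assoc, B.a_sq, one_mul]]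
    exact (Commute.mul_right (show Commute (cj y k) a from e1) e2).eq
  have hN := B.conj_core_le (hmap x ha he) (hmap x⁻¹ ha' he')
  rw [B.pCore_cent2] at hN
  obtain ⟨q, hq, r, hr, hqr⟩ := B.nonab
  have hq' : cj x q ∈ J := hN (map_cj_mem hq)
  have hr' : cj x r ∈ J := hN (map_cj_mem hr)
  have e := congrArg (cj x) hqr
  rw [cj_mul', cj_mul', cj_mul', he] at e
  rcases B.comm hq' hr' with h | h <;> rw [h] at e
  · exact B.az_ne_one (left_eq_mul.1 e)
  · exact B.az_ne_z (mul_left_cancel e).symm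

/-- An element of the centraliser of `a` fixing `z` modulo `⟨a⟩` fixes `z`. -/
theorem fix_mod {x : G} (hx : x * a = a * x) (h : cj x z = z ∨ cj x z = a * z) : x * z = z * x :=
  cj_fix_iff.1 (h.resolve_right (B.az_not hx))

end Base

/-- The centraliser of `a` modulo `⟨a⟩`. -/
abbrev QA {G : Type*} [Group G] (a : G) :=
  ↥(centralizer ({a} : Set G)) ⧸ (zpowers a).subgroupOf (centralizer ({a} : Set G))

instance normal_a {G : Type*} [Group G] (a : G) :
    ((zpowers a).subgroupOf (centralizer ({a} : Set G))).Normal := by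
  refine ⟨fun n hn g => ?_⟩
  rw [mem_subgroupOf] at hn ⊢
  obtain ⟨k, hk⟩ := hn
  have hc : Commute (g : G) (n : G) := by
    rw [← hk]; exact (show Commute (g : G) a from mem_centralizer_singleton_iff.1 g.2).zpow_right k
  rw [coe_mul, coe_mul, coe_inv, hc.eq, mul_inv_cancel_right]
  exact ⟨k, hk⟩

/-- The class of an element of the centraliser of `a`. -/
def mk2 {G : Type*} [Group G] (a : G) {x : G} (hx : x * a = a * x) : QA a :=
  QuotientGroup.mk ⟨x, mem_centralizer_singleton_iff.2 hx⟩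

theorem mk2_surj {G : Type*} [Group G] {a : G} (y : QA a) : ∃ x, ∃ hx : x * a = a * x, y = mk2 a hx := by
  obtain ⟨⟨x, hx⟩, rfl⟩ := QuotientGroup.mk_surjective y
  exact ⟨x, mem_centralizer_singleton_iff.1 hx, rfl⟩

theorem mk2_eq {G : Type*} [Group G] {a x y : G} (ha : a * a = 1) {hx : x * a = a * x}
    {hy : y * a = a * y} : mk2 a hx = mk2 a hy ↔ y = x ∨ y = x * a := by
  rw [mk2, mk2, QuotientGroup.eq, mem_subgroupOf, mem_zpowers_invol ha]
  rw [coe_mul, coe_inv, inv_mul_eq_iff_eq_mul, inv_mul_eq_iff_eq_mul, mul_one]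

namespace Base

variable {G : Type*} [Group G] [Finite G] {z a : G} {J E : Subgroup G} (B : Base z a J E)
include B

/-- The image of `z`. -/
def zQ : QA a := mk2 a (x := z) B.az.symm

theorem zQ_ord : orderOf B.zQ = 2 := by
  refine orderOf_eq_prime ?_ ?_
  · rw [pow_two, zQ, mk2, ← QuotientGroup.mk_mul, QuotientGroup.eq_one_iff, mem_subgroupOf]
    simp [B.z_sq]
  · rw [zQ, mk2, Ne, QuotientGroup.eq_one_iff, mem_subgroupOf, mem_zpowers_invol B.a_sq]
    rintro (e | e)
    exacts [B.z_ne e, B.a_ne_z e.symm]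

theorem mk2_comm {x : G} (hx : x * a = a * x) :
    mk2 a hx * B.zQ = B.zQ * mk2 a hx ↔ x * z = z * x := by
  constructor
  · intro h
    rw [zQ, mk2, mk2, ← QuotientGroup.mk_mul, ← QuotientGroup.mk_mul, QuotientGroup.eq,
      mem_subgroupOf, mem_zpowers_invol B.a_sq] at h
    simp only [coe_mul, coe_inv, inv_mul_eq_iff_eq_mul] at h
    refine B.fix_mod hx (h.imp (fun e => cj_fix_iff.2 (e.trans (mul_one _)).symm) fun e => ?_)
    have e' : x * z = z * x * a := by
      rw [e, mul_assoc, B.a_sq, mul_one]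
    rw [cj, e', mul_assoc z, hx, ← mul_assoc, ← B.az, mul_assoc (a * z), mul_inv_cancel, mul_one]
  · intro h
    rw [zQ, mk2, mk2, ← QuotientGroup.mk_mul, ← QuotientGroup.mk_mul]
    exact congrArg _ (Subtype.ext h)

/-- The map onto the centraliser of the image of `z`. -/
def toCent : ↥(cent2 z a) →* ↥(centralizer ({B.zQ} : Set (QA a))) :=
  MonoidHom.codRestrict
    ((QuotientGroup.mk' _).comp (Subgroup.inclusion (fun _ hx => hx.2) :
      ↥(cent2 z a) →* ↥(centralizer ({a} : Set G)))) _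
    fun c => mem_centralizer_singleton_iff.2 ((B.mk2_comm (mem_cent2.1 c.2).2).2 (mem_cent2.1 c.2).1)

theorem toCent_coe (c : ↥(cent2 z a)) :
    ((B.toCent c : ↥(centralizer ({B.zQ} : Set (QA a)))) : QA a) = mk2 a (mem_cent2.1 c.2).2 := rfl

theorem toCent_surj : Function.Surjective B.toCent := by
  intro y
  obtain ⟨x, hx, e⟩ := mk2_surj y.1
  have hy := mem_centralizer_singleton_iff.1 y.2
  rw [e] at hy
  exact ⟨⟨x, mem_cent2.2 ⟨(B.mk2_comm hx).1 hy, hx⟩⟩, Subtype.ext e.symm⟩

theorem toCent_eq_one {c : ↥(cent2 z a)} : B.toCent c = 1 ↔ (c : G) = 1 ∨ (c : G) = a := by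
  rw [← Subtype.coe_inj, toCent_coe, mk2]
  exact (QuotientGroup.eq_one_iff _).trans (mem_subgroupOf.trans (mem_zpowers_invol B.a_sq))

theorem map_core : (J.subgroupOf (cent2 z a)).map B.toCent =
    Cfsg.pCore 2 ↥(centralizer ({B.zQ} : Set (QA a))) := by
  haveI : Fact (Nat.Prime 2) := ⟨Nat.prime_two⟩
  have hker : B.toCent.ker ≤ J.subgroupOf (cent2 z a) := fun c hc => by
    rcases B.toCent_eq_one.1 hc with e | e <;> rw [mem_subgroupOf, e]
    exacts [J.one_mem, B.aJ]
  have hJn : (J.subgroupOf (cent2 z a)).Normal := ⟨fun n hn g => by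
    rw [mem_subgroupOf] at hn ⊢
    exact B.normH g (mem_cent2.1 g.2).1 n hn⟩
  refine le_antisymm (le_sSup ⟨hJn.map _ B.toCent_surj, (B.Jp.comap_subtype).map _⟩) ?_
  intro y hy
  obtain ⟨c, rfl⟩ := B.toCent_surj y
  refine mem_map_of_mem _ ?_
  let N := (Cfsg.pCore 2 ↥(centralizer ({B.zQ} : Set (QA a)))).comap B.toCent
  have hNp : IsPGroup 2 ↥N := by
    intro n
    obtain ⟨k, hk⟩ := Cores.pCore_isPGroup (p := 2)
      (G := ↥(centralizer ({B.zQ} : Set (QA a)))) ⟨B.toCent n, n.2⟩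
    have hk' : B.toCent ((n : ↥(cent2 z a)) ^ 2 ^ k) = 1 := by
      rw [map_pow]; exact congrArg Subtype.val hk
    refine ⟨k + 1, Subtype.ext (Subtype.ext ?_)⟩
    simp only [SubgroupClass.coe_pow, coe_one]
    rw [pow_succ, pow_mul]
    rcases B.toCent_eq_one.1 hk' with e | e <;> rw [SubgroupClass.coe_pow] at e <;> rw [e, pow_two]
    exacts [one_mul 1, B.a_sq]
  haveI : (Cfsg.pCore 2 ↥(centralizer ({B.zQ} : Set (QA a)))).Normal := pCore_normal 2 _
  have hle : N ≤ Cfsg.pCore 2 ↥(cent2 z a) := le_sSup ⟨inferInstance, hNp⟩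
  rw [mem_subgroupOf, ← B.pCore_cent2]
  exact ⟨c, hle hy, rfl⟩

theorem core_extra :
    Cfsg.IsExtraspecial 2 ↥(Cfsg.pCore 2 ↥(centralizer ({B.zQ} : Set (QA a)))) ∧
    Nat.card ↥(Cfsg.pCore 2 ↥(centralizer ({B.zQ} : Set (QA a)))) = 2 ^ 9 := by
  have hle : E ≤ cent2 z a := B.E_le.trans B.J_le
  let θ : ↥E →* ↥(centralizer ({B.zQ} : Set (QA a))) := B.toCent.comp (Subgroup.inclusion hle)
  have hinj : Function.Injective θ := (injective_iff_map_eq_one θ).2 fun x hx => by
    rcases B.toCent_eq_one.1 hx with e | e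
    · exact Subtype.ext e
    · exact absurd (show a ∈ E by rw [← (show (x : G) = a from e)]; exact x.2) B.aE
  have hr : θ.range = Cfsg.pCore 2 ↥(centralizer ({B.zQ} : Set (QA a))) := by
    rw [← B.map_core]
    ext y
    constructor
    · rintro ⟨x, rfl⟩
      exact mem_map_of_mem _ (mem_subgroupOf.2 (B.E_le x.2))
    · rintro ⟨c, hc, rfl⟩
      rcases B.dec c (mem_subgroupOf.1 hc) with h | h
      · exact ⟨⟨c, h⟩, rfl⟩
      · refine ⟨⟨_, h⟩, ?_⟩
        have ha : a ∈ cent2 z a := B.J_le B.aJ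
        show B.toCent (⟨a, ha⟩ * c) = _
        rw [map_mul, B.toCent_eq_one.2 (Or.inr rfl), one_mul]
  let e : ↥E ≃* ↥(Cfsg.pCore 2 ↥(centralizer ({B.zQ} : Set (QA a)))) :=
    (MonoidHom.ofInjective hinj).trans (MulEquiv.subgroupCongr hr)
  exact ⟨H92.isExtraspecial_of_mulEquiv e B.E_extra,
    (Nat.card_congr e.toEquiv).symm.trans B.E_card⟩

theorem core_cent :
    centralizer ((Cfsg.pCore 2 ↥(centralizer ({B.zQ} : Set (QA a)))) :
      Set ↥(centralizer ({B.zQ} : Set (QA a)))) ≤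
      Cfsg.pCore 2 ↥(centralizer ({B.zQ} : Set (QA a))) := by
  intro y hy
  obtain ⟨c, rfl⟩ := B.toCent_surj y
  rw [← B.map_core] at hy ⊢
  have hc := mem_cent2.1 c.2
  refine mem_map_of_mem _ (mem_subgroupOf.2 (B.cent_mod hc fun q hq => ?_))
  let q' : ↥(cent2 z a) := ⟨q, B.J_le hq⟩
  have h := mem_centralizer_iff.1 hy (B.toCent q') (mem_map_of_mem _ (mem_subgroupOf.2 hq))
  have h1 : B.toCent (c * q' * c⁻¹ * q'⁻¹) = 1 := by
    rw [map_mul, map_mul, map_mul, map_inv, map_inv, ← h]; group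
  rcases B.toCent_eq_one.1 h1 with e | e
  · left; exact mul_inv_eq_one.1 e
  · right; exact mul_inv_eq_iff_eq_mul.1 e

/-- The quotient of the centraliser of the image of `z`. -/
theorem quot_equiv {P : Type*} [Group P] (χ : ↥(cent2 z a) →* P) (hs : Function.Surjective χ)
    (hk : ∀ c, χ c = 1 ↔ (c : G) ∈ J)
    [(Cfsg.pCore 2 ↥(centralizer ({B.zQ} : Set (QA a)))).Normal] :
    Nonempty ((↥(centralizer ({B.zQ} : Set (QA a))) ⧸
      Cfsg.pCore 2 ↥(centralizer ({B.zQ} : Set (QA a)))) ≃* P) := by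
  let f := (QuotientGroup.mk' (Cfsg.pCore 2 ↥(centralizer ({B.zQ} : Set (QA a))))).comp B.toCent
  have hf : Function.Surjective f := (QuotientGroup.mk'_surjective _).comp B.toCent_surj
  have hker : f.ker = χ.ker := by
    ext c
    rw [MonoidHom.mem_ker, MonoidHom.mem_ker, hk]
    show QuotientGroup.mk' _ (B.toCent c) = 1 ↔ _
    rw [QuotientGroup.mk'_apply, QuotientGroup.eq_one_iff, ← B.map_core]
    refine ⟨?_, fun h => mem_map_of_mem _ (mem_subgroupOf.2 h)⟩
    rintro ⟨d, hd, e⟩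
    have h1 : B.toCent (d⁻¹ * c) = 1 := by rw [map_mul, map_inv, e, inv_mul_cancel]
    rw [show (c : G) = (d : G) * ((d⁻¹ * c : ↥(cent2 z a)) : G) from by
      rw [coe_mul, coe_inv, mul_inv_cancel_left]]
    refine J.mul_mem (mem_subgroupOf.1 hd) ?_
    rcases B.toCent_eq_one.1 h1 with e' | e' <;> rw [e']
    exacts [J.one_mem, B.aJ]
  exact ⟨(QuotientGroup.quotientKerEquivOfSurjective f hf).symm.trans
    ((QuotientGroup.quotientMulEquivOfEq hker).trans
      (QuotientGroup.quotientKerEquivOfSurjective χ hs))⟩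

end Base

end Cfsg.Agent.H2.Fi22z
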