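import Cfsg.Agent.H2.Fi22z.Setup

/-!
Sylow 2-subgroups of the centralisers of `z` and of `a` in the swapped configuration.
-/

set_option autoImplicit false
set_option linter.style.haveILetI false
set_option maxRecDepth 20000
set_option linter.unusedSectionVars false

namespace Cfsg.Agent.H2.Fi22z

open Cfsg Subgroup
open Cfsg.Agent.H49.USix (cj_fix_iff cj_mul' cj_one')
open H76.LocallyS3 (cj cj_cj cj_injective)

/-- A maximal 2-subgroup of `C`. -/
structure Max2 {G : Type*} [Group G] (C T : Subgroup G) : Prop where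
  le : T ≤ C
  pgrp : IsPGroup 2 ↥T
  max : ∀ Q : Subgroup G, IsPGroup 2 ↥Q → Q ≤ C → T ≤ Q → Q ≤ T

theorem eq_of_normalizer_le {G : Type*} [Group G] [Finite G] {C T P : Subgroup G}
    (hP : IsPGroup 2 ↥P) (hTP : T ≤ P) (hT : Max2 C T)
    (hN : normalizer (T : Set G) ⊓ P ≤ C) : P ≤ T := by
  haveI : Fact (Nat.Prime 2) := ⟨Nat.prime_two⟩
  haveI := hP.isNilpotent
  by_contra hcon
  have hlt : T.subgroupOf P < ⊤ := lt_top_iff_ne_top.2 fun e => hcon (subgroupOf_eq_top.1 e)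
  obtain ⟨x, hx, hxT⟩ := SetLike.exists_of_lt (Group.normalizerCondition_of_isNilpotent _ hlt)
  have hQ : normalizer (T : Set G) ⊓ P ≤ T :=
    hT.max _ (hP.to_le inf_le_right) hN (le_inf le_normalizer hTP)
  refine hxT (mem_subgroupOf.2 (hQ ⟨mem_normalizer_iff.2 fun y => ?_, x.2⟩))
  constructor
  · intro hy
    exact mem_subgroupOf.1 ((mem_normalizer_iff.1 hx ⟨y, hTP hy⟩).1 (mem_subgroupOf.2 hy))
  · intro hy
    have hyP : y ∈ P := by
      have := P.mul_mem (P.mul_mem (P.inv_mem x.2) (hTP hy)) x.2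
      simpa [mul_assoc] using this
    exact mem_subgroupOf.1 ((mem_normalizer_iff.1 hx ⟨y, hyP⟩).2 (mem_subgroupOf.2 hy))

theorem exists_max {G : Type*} [Group G] [Finite G] {N C : Subgroup G} (hN : IsPGroup 2 ↥N)
    (hle : N ≤ C) : ∃ T : Subgroup G, N ≤ T ∧ Max2 C T := by
  obtain ⟨P, hP⟩ := (hN.comap_subtype (K := C)).exists_le_sylow
  refine ⟨(P : Subgroup ↥C).map C.subtype, fun x hx => ⟨⟨x, hle hx⟩, hP (mem_subgroupOf.2 hx), rfl⟩,
    map_subtype_le _, P.isPGroup'.map _, fun Q hQ hQC hTQ x hx => ?_⟩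
  have h : Q.subgroupOf C = P := P.is_maximal' hQ.comap_subtype fun y hy =>
    mem_subgroupOf.2 (hTQ (mem_map_of_mem _ hy))
  exact ⟨⟨x, hQC hx⟩, h ▸ mem_subgroupOf.2 hx, rfl⟩

theorem Max2.sylow {G : Type*} [Group G] [Finite G] {C T : Subgroup G} (hT : Max2 C T) :
    ∃ P : Sylow 2 ↥C, (P : Subgroup ↥C) = T.subgroupOf C :=
  ⟨⟨T.subgroupOf C, hT.pgrp.comap_subtype, fun {R} hR hle => le_antisymm (fun x hx =>
    mem_subgroupOf.2 (hT.max _ (hR.map _) (map_subtype_le _) (fun t ht =>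
      ⟨⟨t, hT.le ht⟩, hle (mem_subgroupOf.2 ht), rfl⟩) (mem_map_of_mem _ hx))) hle⟩, rfl⟩

theorem Max2.conj {G : Type*} [Group G] [Finite G] {C T Q : Subgroup G} (hT : Max2 C T)
    (hQ : IsPGroup 2 ↥Q) (hQC : Q ≤ C) : ∃ c ∈ C, ∀ x ∈ Q, cj c x ∈ T := by
  haveI : Fact (Nat.Prime 2) := ⟨Nat.prime_two⟩
  obtain ⟨P, hP⟩ := hT.sylow
  obtain ⟨P2, hP2⟩ := (hQ.comap_subtype (K := C)).exists_le_sylow
  obtain ⟨c, hc⟩ := MulAction.exists_smul_eq (↥C) P2 P
  refine ⟨c, c.2, fun x hx => ?_⟩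
  have h : c * ⟨x, hQC hx⟩ * c⁻¹ ∈ (c • P2 : Sylow 2 ↥C).toSubgroup := by
    rw [Sylow.coe_subgroup_smul]
    exact ⟨⟨x, hQC hx⟩, hP2 (mem_subgroupOf.2 hx), rfl⟩
  rw [hc, show P.toSubgroup = T.subgroupOf C from hP] at h
  exact mem_subgroupOf.1 h

theorem Max2.card_dvd {G : Type*} [Group G] [Finite G] {C T Q : Subgroup G} (hT : Max2 C T)
    (hQ : IsPGroup 2 ↥Q) (hQC : Q ≤ C) : Nat.card ↥Q ∣ Nat.card ↥T := by
  obtain ⟨c, -, hc⟩ := hT.conj hQ hQC
  rw [Nat.card_congr (Q.equivMapOfInjective (MulAut.conj c).toMonoidHom (MulAut.conj c).injective).toEquiv]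
  refine card_dvd_of_le ?_
  rintro _ ⟨x, hx, rfl⟩
  exact hc x hx

theorem Max2.eq_of_card {G : Type*} [Group G] [Finite G] {C T Q : Subgroup G} (hT : Max2 C T)
    (hQ : IsPGroup 2 ↥Q) (hQC : Q ≤ C) (hcard : Nat.card ↥T ≤ Nat.card ↥Q) : Max2 C Q := by
  refine ⟨hQC, hQ, fun R hR hRC hQR => ?_⟩
  exact (eq_of_le_of_card_ge hQR ((Nat.le_of_dvd Nat.card_pos (hT.card_dvd hR hRC)).trans hcard)).ge

namespace Base

variable {G : Type*} [Group G] [Finite G] {z a : G} {J E : Subgroup G} (B : Base z a J E)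
include B

theorem central_inV {T : Subgroup G} (hJT : J ≤ T) {w : G} (hw : w * z = z * w)
    (hc : ∀ t ∈ T, w * t = t * w) : InV z a w :=
  B.center_J (B.cent w hw fun q hq => hc q (hJT hq)) fun q hq => hc q (hJT hq)

/-- Some element of a maximal 2-subgroup of the centraliser of `z` moves `a`. -/
theorem exists_move (hswap : ∃ h : G, h * z = z * h ∧ cj h a = a * z) {T : Subgroup G}
    (hT : Max2 (centralizer ({z} : Set G)) T) : ∃ t ∈ T, cj t a = a * z := by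
  obtain ⟨h, hh, hha⟩ := hswap
  obtain ⟨s, m, hm, hsm⟩ := Nat.exists_eq_pow_mul_and_not_dvd (orderOf_pos h).ne' 2 (by norm_num)
  have hodd : Odd m := Nat.not_even_iff_odd.1 fun e => hm (even_iff_two_dvd.1 e)
  have hhm : h ^ m * z = z * h ^ m := ((show Commute h z from hh).pow_left m).eq
  have hhh : cj (h * h) a = a := by
    rw [← cj_cj, hha, cj_mul' h a z, hha, cj_fix_iff.2 hh, mul_assoc, B.z_sq, mul_one]
  have hma : cj (h ^ m) a = a * z := by
    obtain ⟨k, hk⟩ := hodd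
    have hp : ∀ n : ℕ, cj (h ^ (2 * n + 1)) a = a * z := by
      intro n
      induction n with
      | zero => rw [Nat.mul_zero, zero_add, pow_one, hha]
      | succ n ih =>
        rw [show 2 * (n + 1) + 1 = (2 * n + 1) + 2 by ring, pow_add, pow_two, ← cj_cj, hhh, ih]
    rw [hk]; exact hp k
  have hpg : IsPGroup 2 ↥(zpowers (h ^ m)) := by
    obtain ⟨i, -, hi⟩ := (Nat.dvd_prime_pow Nat.prime_two).1
      (orderOf_dvd_of_pow_eq_one (x := h ^ m) (n := 2 ^ s)
        (by rw [← pow_mul, mul_comm, ← hsm, pow_orderOf_eq_one]))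
    exact IsPGroup.of_card (n := i) (by rw [Nat.card_zpowers, hi])
  obtain ⟨c, hc, hcT⟩ := hT.conj hpg (zpowers_le.2 (mem_centralizer_singleton_iff.2 hhm))
  have hcz : c * z = z * c := mem_centralizer_singleton_iff.1 hc
  refine ⟨cj c (h ^ m), hcT _ (mem_zpowers _), ?_⟩
  have hci : c⁻¹ * z = z * c⁻¹ := (Commute.inv_left (show Commute c z from hcz)).eq
  rw [show cj (cj c (h ^ m)) a = cj c (cj (h ^ m) (cj c⁻¹ a)) by simp [cj, mul_assoc]]
  rcases B.fix_or hci with e | e <;> rw [e]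
  · have e' : cj c a = a := by
      conv_lhs => rw [← e, cj_cj, mul_inv_cancel, cj_one']
    rw [hma, cj_mul' c a z, e', cj_fix_iff.2 hcz]
  · rw [cj_mul' (h ^ m) a z, hma, cj_fix_iff.2 hhm, mul_assoc, B.z_sq, mul_one]
    have e' : cj c (a * z) = a := by rw [← e, cj_cj, mul_inv_cancel, cj_one']
    rw [cj_mul' c a z, cj_fix_iff.2 hcz] at e'
    conv_rhs => rw [← e', mul_assoc, B.z_sq, mul_one]

/-- Sylow 2-subgroups with a swap. -/
theorem exists_sylows (hswap : ∃ h : G, h * z = z * h ∧ cj h a = a * z) :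
    ∃ T : Subgroup G, J ≤ T ∧ T ≤ centralizer ({z} : Set G) ∧ Max2 ⊤ T ∧
      Max2 (centralizer ({a} : Set G)) (T ⊓ cent2 z a) ∧
      Nat.card ↥(T ⊓ cent2 z a : Subgroup G) * 2 = Nat.card ↥T ∧ (∃ t ∈ T, cj t a = a * z) ∧
      ∀ g : G, cj g z ≠ a := by
  haveI : Fact (Nat.Prime 2) := ⟨Nat.prime_two⟩
  obtain ⟨T, hJT, hT⟩ := exists_max (C := centralizer ({z} : Set G)) B.Jp
    (fun q hq => mem_centralizer_singleton_iff.2 (B.le q hq).1)
  have hTz : ∀ t ∈ T, t * z = z * t := fun t ht => mem_centralizer_singleton_iff.1 (hT.le ht)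
  obtain ⟨t, ht, hta⟩ := B.exists_move hswap hT
  have hmax : Max2 (⊤ : Subgroup G) T := by
    refine ⟨le_top, hT.pgrp, fun Q hQ _ hTQ => eq_of_normalizer_le hQ hTQ hT ?_⟩
    intro g hg
    refine mem_centralizer_singleton_iff.2 (cj_fix_iff.1 ?_)
    have hgT := mem_normalizer_iff.1 hg.1
    have hwT : cj g z ∈ T := (hgT z).1 (hJT B.zJ)
    have hcomm : ∀ u ∈ T, cj g z * u = u * cj g z := by
      intro u hu
      have hu' : g⁻¹ * u * g ∈ T := (hgT _).2 (by simpa [mul_assoc] using hu)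
      have e := cj_comm (g := g) (hTz _ hu').symm
      rwa [cj_inv_left'] at e
    rcases B.central_inV hJT (hTz _ hwT) hcomm with e | e | e | e
    · exact absurd (cj_injective g (e.trans (by simp [cj]))) B.z_ne
    · exact e
    · exact absurd (hta.symm.trans (cj_fix_iff.2 (e ▸ hcomm t ht).symm)) B.az_ne_a
    · exfalso
      have h2 := cj_fix_iff.2 (e ▸ hcomm t ht).symm
      rw [cj_mul' t a z, hta, cj_fix_iff.2 (hTz t ht), mul_assoc, B.z_sq, mul_one] at h2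
      exact B.az_ne_a h2.symm
  have hcard : Nat.card ↥(T ⊓ cent2 z a : Subgroup G) * 2 = Nat.card ↥T := by
    have h2 : ((T ⊓ cent2 z a).subgroupOf T).index = 2 := by
      rw [index_eq_two_iff]
      refine ⟨⟨t, ht⟩, fun b => ?_⟩
      have hbz := hTz b b.2
      have e : ∀ x : G, x ∈ T → (x ∈ T ⊓ cent2 z a ↔ cj x a = a) := fun x hx =>
        ⟨fun h => cj_fix_iff.2 (mem_cent2.1 h.2).2,
          fun h => ⟨hx, mem_cent2.2 ⟨hTz x hx, cj_fix_iff.1 h⟩⟩⟩
      rw [mem_subgroupOf, mem_subgroupOf, coe_mul, e _ (T.mul_mem b.2 ht), e _ b.2, ← cj_cj, hta,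
        cj_mul' (b : G) a z, cj_fix_iff.2 hbz]
      rcases B.fix_or hbz with e' | e' <;> rw [e']
      · exact Or.inr ⟨rfl, B.az_ne_a⟩
      · exact Or.inl ⟨by rw [mul_assoc, B.z_sq, mul_one], B.az_ne_a⟩
    have h3 := card_mul_index ((T ⊓ cent2 z a).subgroupOf T)
    rw [h2, Nat.card_congr (subgroupOfEquivOfLe (inf_le_left : T ⊓ cent2 z a ≤ T)).toEquiv] at h3
    exact h3
  have h0 : Max2 (cent2 z a) (T ⊓ cent2 z a) := by
    obtain ⟨R, -, hR⟩ := exists_max (C := cent2 z a) B.Jp B.J_le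
    refine hR.eq_of_card (hT.pgrp.to_le inf_le_left) inf_le_right ?_
    obtain ⟨R', hRR', hR'⟩ := exists_max (C := centralizer ({z} : Set G)) hR.pgrp
      (hR.le.trans inf_le_left)
    obtain ⟨u, hu, hua⟩ := B.exists_move hswap hR'
    have hne : R ≠ R' := fun e => B.az_ne_a
      (hua.symm.trans (cj_fix_iff.2 (mem_cent2.1 (hR.le (e ▸ hu))).2))
    obtain ⟨i, hi⟩ := IsPGroup.iff_card.1 hR.pgrp
    obtain ⟨n, hn⟩ := IsPGroup.iff_card.1 hT.pgrp
    have hlt : Nat.card ↥R < Nat.card ↥R' := by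
      rcases lt_or_ge (Nat.card ↥R) (Nat.card ↥R') with h | h
      · exact h
      · exact absurd (eq_of_le_of_card_ge hRR' h) hne
    have hle : Nat.card ↥R' ≤ Nat.card ↥T := Nat.le_of_dvd Nat.card_pos (hT.card_dvd hR'.pgrp hR'.le)
    have : i < n := (Nat.pow_lt_pow_iff_right (a := 2) (by norm_num)).1 (by rw [← hi, ← hn]; omega)
    have h2 : 2 ^ i * 2 ≤ 2 ^ n := by rw [← pow_succ]; exact Nat.pow_le_pow_right (by norm_num) this
    omega
  have hX : Max2 (centralizer ({a} : Set G)) (T ⊓ cent2 z a) := by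
    refine ⟨inf_le_right.trans inf_le_right, hT.pgrp.to_le inf_le_left,
      fun Q hQ hQa hTQ => eq_of_normalizer_le hQ hTQ h0 ?_⟩
    intro g hg
    have hga : g * a = a * g := mem_centralizer_singleton_iff.1 (hQa hg.2)
    have hgT := mem_normalizer_iff.1 hg.1
    have hz0 : z ∈ T ⊓ cent2 z a := ⟨hJT B.zJ, B.J_le B.zJ⟩
    have hw := (hgT z).1 hz0
    have hcomm : ∀ u ∈ T ⊓ cent2 z a, cj g z * u = u * cj g z := by
      intro u hu
      have hu' : g⁻¹ * u * g ∈ T ⊓ cent2 z a := (hgT _).2 (by simpa [mul_assoc] using hu)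
      have e := cj_comm (g := g) (mem_cent2.1 hu'.2).1.symm
      rwa [cj_inv_left'] at e
    refine mem_cent2.2 ⟨cj_fix_iff.1 ?_, hga⟩
    rcases B.central_inV (T := T ⊓ cent2 z a) (le_inf hJT B.J_le) (mem_cent2.1 hw.2).1 hcomm with
      e | e | e | e
    · exact absurd (cj_injective g (e.trans (by simp [cj]))) B.z_ne
    · exact e
    · exact absurd (cj_injective g (e.trans (cj_fix_iff.2 hga).symm)) (fun h => B.a_ne_z h.symm)
    · exact absurd e (B.az_not hga)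
  refine ⟨T, hJT, hT.le, hmax, hX, hcard, ⟨t, ht, hta⟩, fun g hg => ?_⟩
  have hle : T.map (MulAut.conj g).toMonoidHom ≤ centralizer ({a} : Set G) := by
    rintro _ ⟨u, hu, rfl⟩
    refine mem_centralizer_singleton_iff.2 ?_
    have e := congrArg (cj g) (hTz u hu)
    rw [cj_mul' g u z, cj_mul' g z u, hg] at e
    exact e
  have h := Nat.le_of_dvd Nat.card_pos (hX.card_dvd (hT.pgrp.map _) hle)
  have hmapc : Nat.card ↥(T.map (MulAut.conj g).toMonoidHom) = Nat.card ↥T :=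
    (Nat.card_congr (T.equivMapOfInjective (MulAut.conj g).toMonoidHom (MulAut.conj g).injective).toEquiv).symm
  have hpos : 0 < Nat.card ↥(T ⊓ cent2 z a : Subgroup G) := Nat.card_pos
  omega

end Base

end Cfsg.Agent.H2.Fi22z
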