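import Cfsg.Agent.H2.Fi22z.Setup
import Cfsg.Agent.H2.Fi22z.Mod

/-!
The centraliser of the four-group as a natural unitary module extension.
-/

set_option autoImplicit false
set_option linter.style.haveILetI false
set_option maxRecDepth 20000
set_option linter.unusedSectionVars false

namespace Cfsg.Agent.H2.Fi22z

open Cfsg Subgroup
open Cfsg.Agent.H49.USix Cfsg.Agent.H49.UChar
open Cfsg.Agent.H92.ExtraForm (zp)
open H76.LocallyS3 (cj cj_cj cj_injective)

namespace Base

variable {G : Type*} [Group G] [Finite G] {z a : G} {J E : Subgroup G} (B : Base z a J E)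
include B

theorem eq_of_mod {x y : G} (hx : x = 1 ∨ x = z) (hy : y = 1 ∨ y = z) (h : y = x ∨ y = x * a) :
    y = x := by
  refine h.resolve_right fun e => ?_
  rcases hx with rfl | rfl <;> rcases hy with rfl | rfl
  · exact B.a_ne (by simpa using e.symm)
  · exact B.a_ne_z (by simpa using e.symm)
  · exact B.az_ne_one (B.az.trans e.symm)
  · exact B.az_ne_z (B.az.trans e.symm)

/-- The core of the centraliser of the image of `z`. -/
def JQ : Subgroup (QA a) :=
  (Cfsg.pCore 2 ↥(centralizer ({B.zQ} : Set (QA a)))).map (centralizer ({B.zQ} : Set (QA a))).subtype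

theorem mem_JQ {x : G} (hx : x * a = a * x) (hz : x * z = z * x) : mk2 a hx ∈ B.JQ ↔ x ∈ J := by
  let c : ↥(cent2 z a) := ⟨x, mem_cent2.2 ⟨hz, hx⟩⟩
  constructor
  · rintro ⟨y, hy, e⟩
    rw [← B.map_core] at hy
    obtain ⟨d, hd, rfl⟩ := hy
    have h := (mk2_eq B.a_sq).1 (show mk2 a (mem_cent2.1 d.2).2 = mk2 a hx from e)
    rcases h with h | h <;> rw [h]
    exacts [mem_subgroupOf.1 hd, J.mul_mem (mem_subgroupOf.1 hd) B.aJ]
  · intro h
    exact ⟨B.toCent c, B.map_core ▸ mem_map_of_mem _ (mem_subgroupOf.2 h), rfl⟩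

/-- The natural case of the core of the quotient gives the module. -/
theorem mod_of_core (C : Core B.zQ B.JQ) : Nonempty (Mod z a J) := by
  classical
  let π : G → W4 := fun g => if h : g * a = a * g then C.π (mk2 a h) else 0
  let ρ : G → Equiv.Perm W4 := fun g => if h : g * a = a * g then C.ρ (mk2 a h) else 1
  have hπ : ∀ g (h : g * a = a * g), π g = C.π (mk2 a h) := fun g h => dif_pos h
  have hρ : ∀ g (h : g * a = a * g), ρ g = C.ρ (mk2 a h) := fun g h => dif_pos h
  have hcz : ∀ c (h : InC z a c), mk2 a h.2 * B.zQ = B.zQ * mk2 a h.2 := fun c h =>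
    (B.mk2_comm h.2).2 h.1
  have hmul : ∀ c d : G, InC z a c → InC z a d → InC z a (c * d) := fun c d hc hd =>
    ⟨(Commute.mul_left (show Commute c z from hc.1) hd.1).eq,
      (Commute.mul_left (show Commute c a from hc.2) hd.2).eq⟩
  have hmem : ∀ q (h : q ∈ J), mk2 a (B.le q h).2 ∈ B.JQ := fun q h => (B.mem_JQ _ (B.le q h).1).2 h
  have hzp : ∀ t : ZMod 2, zp z t = 1 ∨ zp z t = z := fun t => by unfold zp; split_ifs <;> simp
  have hzc : ∀ t : ZMod 2, zp z t * a = a * zp z t := fun t => by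
    rcases hzp t with e | e <;> rw [e]
    exacts [by simp, B.az.symm]
  have hzQ : ∀ t : ZMod 2, zp B.zQ t = mk2 a (hzc t) := fun t => by
    rcases zmod2_cases t with rfl | rfl
    · exact (show mk2 a (x := (1 : G)) (by simp) = 1 from rfl).symm.trans
        ((mk2_eq B.a_sq).2 (Or.inl (by simp [zp])))
    · rw [show zp B.zQ 1 = B.zQ by simp [zp]]
      exact (mk2_eq B.a_sq (hx := B.az.symm)).2 (Or.inl (by simp [zp]))
  refine ⟨{
    z_sq := B.z_sq, a_sq := B.a_sq, az := B.az, z_ne := B.z_ne, zJ := B.zJ, aJ := B.aJ, le := B.le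
    norm := fun h hh q hq => B.normH h hh.1 q hq
    π := π
    π_mul := fun p hp q hq => by
      rw [hπ _ (B.le _ (J.mul_mem hp hq)).2, hπ p (B.le p hp).2, hπ q (B.le q hq).2]
      exact C.π_mul _ (hmem p hp) _ (hmem q hq)
    π_surj := fun v => by
      obtain ⟨y, hy, rfl⟩ := C.π_surj v
      obtain ⟨x, hx, rfl⟩ := mk2_surj y
      have hxz := (B.mk2_comm hx).1 (C.le _ hy)
      exact ⟨x, (B.mem_JQ hx hxz).1 hy, hπ x hx⟩
    π_zero := fun q hq => by
      rw [hπ q (B.le q hq).2, C.π_zero _ (hmem q hq), zQ,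
        show (1 : QA a) = mk2 a (x := (1 : G)) (by simp) from rfl,
        mk2_eq B.a_sq, mk2_eq B.a_sq]
      constructor
      · rintro ((e | e) | (e | e))
        · exact Or.inl e.symm
        · refine Or.inr (Or.inr (Or.inl ?_))
          rw [← mul_one q, ← B.a_sq, ← mul_assoc, ← e, one_mul]
        · exact Or.inr (Or.inl e.symm)
        · refine Or.inr (Or.inr (Or.inr ?_))
          rw [B.az, ← mul_one q, ← B.a_sq, ← mul_assoc, ← e]
      · rintro (e | e | e | e)
        · exact Or.inl (Or.inl e.symm)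
        · exact Or.inr (Or.inl e.symm)
        · exact Or.inl (Or.inr (by rw [e, B.a_sq]))
        · exact Or.inr (Or.inr (by rw [e, B.az, mul_assoc, B.a_sq, mul_one]))
    comm := fun q hq r hr => by
      rw [hπ q (B.le q hq).2, hπ r (B.le r hr).2]
      have h := C.comm _ (hmem q hq) _ (hmem r hr)
      set t := pol4 (C.π (mk2 a (B.le q hq).2)) (C.π (mk2 a (B.le r hr).2))
      rw [hzQ] at h
      have h' := (mk2_eq B.a_sq (hx := (hmul _ _ (B.le r hr) (B.le q hq)).2)
        (hy := (Commute.mul_left (show Commute (q * r) a from (hmul _ _ (B.le q hq) (B.le r hr)).2)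
          (hzc t)).eq)).1 h
      obtain ⟨d, hd, hrq⟩ : ∃ d, (d = 1 ∨ d = z) ∧ r * q = q * r * d := by
        rcases B.comm hq hr with e | e
        exacts [⟨1, Or.inl rfl, by rw [mul_one, e]⟩, ⟨z, Or.inr rfl, e⟩]
      rw [hrq]
      rw [hrq, mul_assoc (q * r) d a, mul_right_inj, mul_right_inj] at h'
      rw [B.eq_of_mod hd (hzp t) h']
    sq := fun q hq => by
      rw [hπ q (B.le q hq).2]
      have h := C.sq _ (hmem q hq)
      set t := wt4 (C.π (mk2 a (B.le q hq).2))
      rw [hzQ] at h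
      exact (B.eq_of_mod (B.sq hq) (hzp t)
        ((mk2_eq B.a_sq (hx := (hmul _ _ (B.le q hq) (B.le q hq)).2) (hy := hzc t)).1 h)).symm
    ρ := ρ
    ρ_mul := fun c d hc hd => by
      rw [hρ _ (hmul c d hc hd).2, hρ c hc.2, hρ d hd.2]
      exact C.ρ_mul _ _ (hcz c hc) (hcz d hd)
    ρ_π := fun c hc q hq => by
      rw [hπ _ (B.le _ (B.normH c hc.1 q hq)).2, hπ q (B.le q hq).2, hρ c hc.2]
      exact C.ρ_π _ (hcz c hc) _ (hmem q hq)
    ρ_ker := fun c hc => by rw [hρ c hc.2, C.ρ_ker _ (hcz c hc), B.mem_JQ hc.2 hc.1]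
    ρ_iso := fun c hc => by rw [hρ c hc.2]; exact C.ρ_iso _ (hcz c hc)
    ρ_surj := fun g => by
      obtain ⟨y, hy, hg⟩ := C.ρ_surj g
      obtain ⟨x, hx, rfl⟩ := mk2_surj y
      exact ⟨x, ⟨(B.mk2_comm hx).1 hy, hx⟩, fun w => by rw [hρ x hx]; exact hg w⟩
    cls := fun c hc h2 => by
      have h1 := C.ρ_mul _ _ (hcz c hc) (hcz c hc)
      have h1' : C.ρ (mk2 a hc.2) * C.ρ (mk2 a hc.2) = 1 := by
        rw [← h1, C.ρ_ker]
        · rw [show mk2 a hc.2 * mk2 a hc.2 = mk2 a (hmul c c hc hc).2 from rfl,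
            B.mem_JQ _ (hmul c c hc hc).1, h2]
          exact J.one_mem
        · exact (Commute.mul_left (hcz c hc) (hcz c hc)).eq
      rcases invol_cases (C.ρ_iso _ (hcz c hc)) h1' with e | ⟨k, e⟩ | ⟨k, l, hkl, hne, e⟩
      · exact Or.inl ((B.mem_JQ hc.2 hc.1).1 ((C.ρ_ker _ (hcz c hc)).1 e))
      · exact Or.inr (Or.inl ⟨k, by rw [hρ c hc.2, e]⟩)
      · exact Or.inr (Or.inr ⟨k, l, hkl, hne, by rw [hρ c hc.2, e]⟩) }⟩

end Base

end Cfsg.Agent.H2.Fi22z
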