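import Cfsg.Agent.H2.Fi22z.Mod

/-!
Two commuting involutions of the pair centraliser outside the four-group, with the same centraliser
there and with product outside the four-group, do not exist.
-/

set_option autoImplicit false
set_option linter.style.haveILetI false
set_option maxRecDepth 20000
set_option linter.unusedSectionVars false

namespace Cfsg.Agent.H2.Fi22z

open Cfsg
open Cfsg.Agent.H49.USix Cfsg.Agent.H49.UChar
open Cfsg.Agent.Unitary (ap)
open Cfsg.Agent.H41.SUSix (K4 ω₄)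
open Cfsg.Agent.H92.ExtraForm (zp)
open H76.LocallyS3 (cj cj_cj cj_injective)

theorem tp_fix {k : Fin 45} {w : W4} : tp k w = w ↔ hh w (pv k) = 0 := by
  rw [tp_apply, add_eq_left, smul_eq_zero, or_iff_left (pv_ne k)]

theorem ort_indep {k l : Fin 45} (hne : k ≠ l) {α β : K4} (e : α • pv k + β • pv l = 0) :
    α = 0 ∧ β = 0 := by
  constructor
  · obtain ⟨w, w1, w2⟩ := exists_values hne 1 0
    have h := congrArg (fun u => hh w u) e
    simp only [hh_add_right, hh_smul_right, w1, w2, mul_one, mul_zero, add_zero] at h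
    exact (k4_sq_zero _).1 (h.trans (hh_zero_symm.1 (hh_zero_left _)))
  · obtain ⟨w, w1, w2⟩ := exists_values hne 0 1
    have h := congrArg (fun u => hh w u) e
    simp only [hh_add_right, hh_smul_right, w1, w2, mul_one, mul_zero, zero_add] at h
    exact (k4_sq_zero _).1 (h.trans (hh_zero_symm.1 (hh_zero_left _)))

theorem pair_apply {k l : Fin 45} (h : Ort k l) (w : W4) :
    (tp k * tp l) w = w + (hh w (pv k) • pv k + hh w (pv l) • pv l) := by
  rw [Equiv.Perm.mul_apply, tp_apply, tp_apply, hh_add_left, hh_smul_left,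
    ort_iff.1 (ort_symm h), mul_zero, add_zero, add_assoc, add_comm (hh w (pv l) • pv l)]

theorem pair_fix {k l : Fin 45} (h : Ort k l) (hne : k ≠ l) {w : W4} :
    (tp k * tp l) w = w ↔ InW k l w := by
  rw [pair_apply h, add_eq_left]
  exact ⟨fun e => ort_indep hne e, fun e => by rw [e.1, e.2, zero_smul, zero_smul, add_zero]⟩

theorem omega_ne : ω₄ ≠ 0 ∧ (1 : K4) + ω₄ ≠ 0 ∧ (1 : K4) ≠ 0 := by decide +kernel

/-- A vector in a hyperplane, orthogonal to one point and not to another. -/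
theorem exists_off {k l : Fin 45} (hne : k ≠ l) (g : W4 → ZMod 2) (hg : ∀ u v, g (u + v) = g u + g v) :
    ∃ w, g w = 0 ∧ hh w (pv l) = 0 ∧ hh w (pv k) ≠ 0 := by
  obtain ⟨w1, h1, h1'⟩ := exists_values hne 1 0
  obtain ⟨w2, h2, h2'⟩ := exists_values hne ω₄ 0
  rcases zmod2_cases (g w1) with e1 | e1
  · exact ⟨w1, e1, h1', h1.symm ▸ omega_ne.2.2⟩
  rcases zmod2_cases (g w2) with e2 | e2
  · exact ⟨w2, e2, h2', h2.symm ▸ omega_ne.1⟩
  refine ⟨w1 + w2, ?_, ?_, ?_⟩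
  · rw [hg, e1, e2]; decide
  · rw [hh_add_left, h1', h2', add_zero]
  · rw [hh_add_left, h1, h2]; exact omega_ne.2.1

theorem exists_off' (k : Fin 45) (g : W4 → ZMod 2) (hg : ∀ u v, g (u + v) = g u + g v) :
    ∃ w, g w = 0 ∧ hh w (pv k) ≠ 0 := by
  obtain ⟨l, hl⟩ := exists_ne k
  obtain ⟨w, h1, -, h3⟩ := exists_off hl.symm g hg
  exact ⟨w, h1, h3⟩

theorem y_code : ∀ p : Fin 5 × Fin 5, p.1 < p.2 →
    (∀ i j : Fin 4, code p (ap (dg yT) (Pi.single i 1)) j = ap (dg yT) (code p (Pi.single i 1)) j) →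
    H49.UChar.lp p.1 = i₀ ∧ H49.UChar.lp p.2 = j₀ := by
  decide +kernel

/-- Two involutions with the same centraliser. -/
structure Twin {G : Type*} [Group G] (z a : G) (J : Subgroup G) (c d : G) : Prop where
  hc : InC z a c
  hd : InC z a d
  c2 : c * c = 1
  d2 : d * d = 1
  cd : c * d = d * c
  cV : ¬ InV z a c
  dV : ¬ InV z a d
  uV : ¬ InV z a (c * d)
  cd_le : ∀ h : G, InC z a h → h * c = c * h → h * d = d * h
  dc_le : ∀ h : G, InC z a h → h * d = d * h → h * c = c * h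
  three : ∀ p ∈ J, ∀ q ∈ J, p * (c * d) = c * d * p → q * (c * d) = c * d * q →
    p * c = c * p ∨ q * c = c * q ∨ p * q * c = c * (p * q)

namespace Twin

variable {G : Type*} [Group G] [Finite G] {z a : G} {J : Subgroup G} {c d : G}

theorem swap (M : Mod z a J) (T : Twin z a J c d) : Twin z a J d c where
  hc := T.hd
  hd := T.hc
  c2 := T.d2
  d2 := T.c2
  cd := T.cd.symm
  cV := T.dV
  dV := T.cV
  uV := by rw [← T.cd]; exact T.uV
  cd_le := T.dc_le
  dc_le := T.cd_le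
  three := fun p hp q hq e1 e2 => by
    rw [← T.cd] at e1 e2
    rcases T.three p hp q hq e1 e2 with e | e | e
    · exact Or.inl (T.cd_le p (M.le p hp) e)
    · exact Or.inr (Or.inl (T.cd_le q (M.le q hq) e))
    · exact Or.inr (Or.inr (T.cd_le _ (M.le _ (J.mul_mem hp hq)) e))

theorem conj (M : Mod z a J) (T : Twin z a J c d) {h : G} (hh' : InC z a h) :
    Twin z a J (cj h c) (cj h d) := by
  have back : ∀ {p q : G}, p * cj h q = cj h q * p → cj h⁻¹ p * q = q * cj h⁻¹ p := by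
    intro p q e
    have e' := congrArg (cj h⁻¹) e
    rwa [cj_mul', cj_mul' h⁻¹ (cj h q) p, cj_inv_cj'] at e'
  have fore : ∀ {p q : G}, cj h⁻¹ p * q = q * cj h⁻¹ p → p * cj h q = cj h q * p := by
    intro p q e
    have e' := congrArg (cj h) e
    rwa [cj_mul', cj_mul' h q, cj_cj, mul_inv_cancel, cj_one'] at e'
  have hV : ∀ {q : G}, InV z a (cj h q) → InV z a q := by
    intro q hq
    have e : cj h⁻¹ (cj h q) = cj h q :=
      cj_fix_iff.2 (M.V_comm hq (M.inC_inv hh'))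
    rw [cj_inv_cj'] at e
    rw [e]; exact hq
  have hi := M.inC_inv hh'
  refine ⟨M.inC_cj hh' T.hc, M.inC_cj hh' T.hd, cj_self_sq T.c2, cj_self_sq T.d2, ?_,
    fun e => T.cV (hV e), fun e => T.dV (hV e), fun e => T.uV (hV ?_), fun k hk e => ?_,
    fun k hk e => ?_, fun p hp q hq e1 e2 => ?_⟩
  · rw [← cj_mul', T.cd, cj_mul']
  · rw [cj_mul']; exact e
  · exact fore (T.cd_le _ (M.inC_cj hi hk) (back e))
  · exact fore (T.dc_le _ (M.inC_cj hi hk) (back e))
  · rw [← cj_mul'] at e1 e2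
    rcases T.three _ (M.norm _ hi p hp) _ (M.norm _ hi q hq) (back e1) (back e2) with e | e | e
    · exact Or.inl (fore e)
    · exact Or.inr (Or.inl (fore e))
    · exact Or.inr (Or.inr (fore (by rw [cj_mul']; exact e)))

end Twin

namespace Mod

variable {G : Type*} [Group G] [Finite G] {z a : G} {J : Subgroup G} (M : Mod z a J)
include M

theorem shape_perp {k : Fin 45} {g : Equiv.Perm W4}
    (h : g = tp k ∨ ∃ l, Ort k l ∧ k ≠ l ∧ g = tp k * tp l) {w : W4} (e : g w = w) :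
    hh w (pv k) = 0 := by
  rcases h with rfl | ⟨l, ho, hne, rfl⟩
  · exact tp_fix.1 e
  · exact ((pair_fix ho hne).1 e).1

theorem shape {c : G} (hc : InC z a c) (c2 : c * c = 1) (hJ : c ∉ J) :
    ∃ k, M.ρ c = tp k ∨ ∃ l, Ort k l ∧ k ≠ l ∧ M.ρ c = tp k * tp l := by
  rcases M.cls c hc c2 with h | ⟨k, h⟩ | ⟨k, l, ho, hne, h⟩
  · exact absurd h hJ
  · exact ⟨k, Or.inl h⟩
  · exact ⟨k, Or.inr ⟨l, ho, hne, h⟩⟩

/-- An involution commuting with a hyperplane of the core lies in it. -/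
theorem mem_of_hyperplane {c : G} (hc : InC z a c) (c2 : c * c = 1) (u : W4)
    (h : ∀ p ∈ J, pol4 u (M.π p) = 0 → c * p = p * c) : c ∈ J := by
  by_contra hJ
  obtain ⟨k, hk⟩ := M.shape hc c2 hJ
  obtain ⟨w, hw, hne⟩ := exists_off' k (pol4 u) (pol4_add_right' u)
  obtain ⟨p, hp, rfl⟩ := M.π_surj w
  exact hne (M.shape_perp hk (M.ρ_fix hc hp (h p hp hw)))

/-- Moving the point of a transvection to the base point. -/
theorem point_move {c : G} (hc : InC z a c) {k : Fin 45} (h : M.ρ c = tp k) :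
    ∃ g, InC z a g ∧ M.ρ (cj g c) = tp i₀ := by
  obtain ⟨f, hf, hfi, hk⟩ := point_trans k
  obtain ⟨g, hg, rfl⟩ := M.exists_of_closure hf
  exact ⟨g, hg, by rw [M.ρ_cj hg hc, h, conj_tp hfi, hk]⟩

/-- Moving a pair of points to the base pair. -/
theorem pair_move {c : G} (hc : InC z a c) {k l : Fin 45} (ho : Ort k l) (hne : k ≠ l)
    (h : M.ρ c = tp k * tp l) : ∃ g, InC z a g ∧ M.ρ (cj g c) = tp i₀ * tp j₀ := by
  obtain ⟨f, hf, hfi, hk, hl⟩ := pair_trans ho hne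
  obtain ⟨g, hg, rfl⟩ := M.exists_of_closure hf
  refine ⟨g, hg, ?_⟩
  rw [M.ρ_cj hg hc, h, ← hk, ← hl, ← conj_tp hfi, ← conj_tp hfi]
  group

theorem y_base {y : G} (hy : InC z a y) (hρy : ∀ w, M.ρ y w = ap (dg yT) w) :
    tp i₀ * M.ρ y = M.ρ y * tp i₀ ∧ tp j₀ * M.ρ y = M.ρ y * tp j₀ := by
  have hi := M.ρ_iso y hy
  have h1 : act (M.ρ y) i₀ = i₀ := act_eq hi (c := ω₄) (by rw [hρy, y_pv₀])
  have h2 : act (M.ρ y) j₀ = j₀ := act_eq hi (c := ω₄ * ω₄) (by rw [hρy, y_pv₁])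
  constructor
  · have e := conj_tp hi i₀
    rw [h1, mul_inv_eq_iff_eq_mul] at e
    exact e.symm
  · have e := conj_tp hi j₀
    rw [h2, mul_inv_eq_iff_eq_mul] at e
    exact e.symm

/-- A conjugate under the core centralising the element without fixed vectors pulls it back. -/
theorem pull {y : G} (hy : InC z a y) {q c : G} (hq : q ∈ J) (h : cj q c * y = y * cj q c) :
    InC z a (cj q⁻¹ y) ∧ M.ρ (cj q⁻¹ y) = M.ρ y ∧ cj q⁻¹ y * c = c * cj q⁻¹ y := by
  refine ⟨M.inC_cj (M.le _ (J.inv_mem hq)) hy, M.ρ_cj_J (J.inv_mem hq) hy, ?_⟩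
  have e := congrArg (cj q⁻¹) h
  rw [cj_mul', cj_mul' q⁻¹ y, cj_inv_cj'] at e
  exact e.symm

section

variable {c d : G}

/-- The product cannot lie in the core. -/
theorem twin_product (T : Twin z a J c d) (hcJ : c ∉ J) (huJ : c * d ∈ J) : False := by
  obtain ⟨y, hy, hρy, s, hys⟩ := M.exists_y
  have perpCase : ∀ {c d : G} {k : Fin 45}, Twin z a J c d → c * d ∈ J →
      (M.ρ c = tp k ∨ ∃ l, Ort k l ∧ k ≠ l ∧ M.ρ c = tp k * tp l) →
      ∀ w, hh w (pv k) = 0 → pol4 (M.π (c * d)) w = 0 := by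
    intro c d k T huJ hk w hw
    by_contra hne
    have hval : ∀ α : K4, ∃ p ∈ J, hh (M.π p) (pv k) = α ∧ p * (c * d) = c * d * p := by
      intro α
      obtain ⟨w', hw'⟩ := exists_value k α
      rcases zmod2_cases (pol4 (M.π (c * d)) w') with e | e
      · obtain ⟨p, hp, rfl⟩ := M.π_surj w'
        exact ⟨p, hp, hw', ((M.comm_iff huJ hp).2 e).symm⟩
      · obtain ⟨p, hp, hpe⟩ := M.π_surj (w' + w)
        refine ⟨p, hp, by rw [hpe, hh_add_left, hw, hw', add_zero], ((M.comm_iff huJ hp).2 ?_).symm⟩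
        rw [hpe, pol4_add_right', e, zmod2_one _ hne]
        decide
    obtain ⟨p, hp, hpv, hpu⟩ := hval 1
    obtain ⟨q, hq, hqv, hqu⟩ := hval ω₄
    rcases T.three p hp q hq hpu hqu with e | e | e
    · have := M.shape_perp hk (M.ρ_fix T.hc hp e.symm)
      exact omega_ne.2.2 (hpv ▸ this)
    · have := M.shape_perp hk (M.ρ_fix T.hc hq e.symm)
      exact omega_ne.1 (hqv ▸ this)
    · have := M.shape_perp hk (M.ρ_fix T.hc (J.mul_mem hp hq) e.symm)
      rw [M.π_mul p hp q hq, hh_add_left, hpv, hqv] at this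
      exact omega_ne.2.1 this
  -- the shape of `c` is a transvection
  obtain ⟨k, hk | ⟨l, ho, hne, hk⟩⟩ := M.shape T.hc T.c2 hcJ
  swap
  · obtain ⟨g, hg, hbase⟩ := M.pair_move T.hc ho hne hk
    have T' := T.conj M hg
    have huJ' : cj g c * cj g d ∈ J := by rw [← cj_mul']; exact M.norm g hg _ huJ
    have hsh : M.ρ (cj g c) = tp i₀ ∨ ∃ l, Ort i₀ l ∧ i₀ ≠ l ∧ M.ρ (cj g c) = tp i₀ * tp l :=
      Or.inr ⟨j₀, ort_base, base_ne, hbase⟩
    have hp := perpCase T' huJ' hsh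
    have hval : ∀ α : K4, ∃ p ∈ J, hh (M.π p) (pv j₀) = α ∧
        p * (cj g c * cj g d) = cj g c * cj g d * p := by
      intro α
      obtain ⟨w, w1, w2⟩ := exists_values base_ne 0 α
      obtain ⟨p, hpJ, rfl⟩ := M.π_surj w
      exact ⟨p, hpJ, w2, ((M.comm_iff huJ' hpJ).2 (hp _ w1)).symm⟩
    obtain ⟨p, hp', hpv, hpu⟩ := hval 1
    obtain ⟨q, hq', hqv, hqu⟩ := hval ω₄
    have fix : ∀ {r : G}, r ∈ J → r * cj g c = cj g c * r → hh (M.π r) (pv j₀) = 0 := by
      intro r hr e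
      have := M.ρ_fix T'.hc hr e.symm
      rw [hbase] at this
      exact ((pair_fix ort_base base_ne).1 this).2
    rcases T'.three p hp' q hq' hpu hqu with e | e | e
    · exact omega_ne.2.2 (hpv ▸ fix hp' e)
    · exact omega_ne.1 (hqv ▸ fix hq' e)
    · have := fix (J.mul_mem hp' hq') e
      rw [M.π_mul p hp' q hq', hh_add_left, hpv, hqv] at this
      exact omega_ne.2.1 this
  obtain ⟨g, hg, hbase⟩ := M.point_move T.hc hk
  have T' := T.conj M hg
  have huJ' : cj g c * cj g d ∈ J := by rw [← cj_mul']; exact M.norm g hg _ huJ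
  have hp := perpCase T' huJ' (Or.inl hbase)
  obtain ⟨x, hx, hxfix, hxy, hcent⟩ :=
    M.std hy hρy hys T'.hc T'.c2 (by rw [hbase]; exact (M.y_base hy hρy).1)
  have hperp : ∀ w, hh w (pv i₀) = 0 → pol4 (M.π x) w = 0 := by
    intro w hw
    by_contra hne
    obtain ⟨w', hw', hv'⟩ := exists_off' i₀ (pol4 (M.π (cj g c * cj g d))) (pol4_add_right' _)
    obtain ⟨p, hpJ, rfl⟩ := M.π_surj w'
    obtain ⟨q, hqJ, rfl⟩ := M.π_surj w
    rcases T'.three p hpJ q hqJ ((M.comm_iff huJ' hpJ).2 hw').symm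
        ((M.comm_iff huJ' hqJ).2 (hp _ hw)).symm with e | e | e
    · exact hv' (M.shape_perp (Or.inl hbase) (M.ρ_fix T'.hc hpJ e.symm))
    · exact hne ((hcent q hqJ).1 e.symm).2
    · have := M.shape_perp (Or.inl hbase) (M.ρ_fix T'.hc (J.mul_mem hpJ hqJ) e.symm)
      rw [M.π_mul p hpJ q hqJ, hh_add_left, hw, add_zero] at this
      exact hv' this
  obtain ⟨e, he⟩ := mem_point_of_perp hperp
  obtain ⟨w, hw⟩ := exists_value i₀ e
  obtain ⟨q, hq, hqy⟩ := M.std_center hy T'.hc T'.c2 hx hxy (w := w) (by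
    rw [hbase, tp_apply, ← add_assoc, vec_add_self, zero_add, hw, he])
  obtain ⟨hy', hρy', hy'c⟩ := M.pull hy hq hqy
  have hy'd := T'.cd_le _ hy' hy'c
  have h0 := M.ρ_fix hy' huJ' (Commute.mul_right hy'c hy'd).eq
  rw [hρy', hρy] at h0
  exact T'.uV ((M.π_zero _ huJ').1 (y_fix h0))

/-- A transvection forces the product into the core. -/
theorem twin_point (T : Twin z a J c d) (hcJ : c ∉ J) (hdJ : d ∉ J) {k : Fin 45}
    (hk : M.ρ c = tp k) : False := by
  obtain ⟨y, hy, hρy, s, hys⟩ := M.exists_y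
  obtain ⟨g, hg, hbase⟩ := M.point_move T.hc hk
  have T' := T.conj M hg
  obtain ⟨x, hx, -, -, hcent⟩ :=
    M.std hy hρy hys T'.hc T'.c2 (by rw [hbase]; exact (M.y_base hy hρy).1)
  have hdJ' : cj g d ∉ J := fun h => hdJ (by
    have := M.norm g⁻¹ (M.inC_inv hg) _ h; rwa [cj_inv_cj'] at this)
  have key : ∀ m : Fin 45, (∀ w, M.ρ (cj g d) w = w → hh w (pv m) = 0) → m = i₀ := by
    intro m hm
    by_contra hne
    obtain ⟨w, hw1, hw2, hw3⟩ := exists_off hne (pol4 (M.π x)) (pol4_add_right' _)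
    obtain ⟨p, hp, rfl⟩ := M.π_surj w
    refine hw3 (hm _ (M.ρ_fix T'.hd hp (T'.cd_le p (M.le p hp) ?_).symm))
    exact ((hcent p hp).2 ⟨by rw [hbase]; exact tp_fix.2 hw2, hw1⟩).symm
  obtain ⟨m, hm | ⟨l, ho, hne, hm⟩⟩ := M.shape T'.hd T'.d2 hdJ'
  · have e := key m fun w h => tp_fix.1 (hm ▸ h)
    refine M.twin_product T hcJ ?_
    have hu : InC z a (cj g c * cj g d) := M.inC_mul T'.hc T'.hd
    have h1 : M.ρ (cj g c * cj g d) = 1 := by
      rw [M.ρ_mul _ _ T'.hc T'.hd, hbase, hm, e, tp_sq]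
    have := M.norm g⁻¹ (M.inC_inv hg) _ ((M.ρ_ker _ hu).1 h1)
    rwa [← cj_mul', cj_inv_cj'] at this
  · have e1 := key m fun w h => ((pair_fix ho hne).1 (hm ▸ h)).1
    have e2 := key l fun w h => ((pair_fix ho hne).1 (hm ▸ h)).2
    exact hne (e1.trans e2.symm)

theorem twin_inner (T : Twin z a J c d) (hcJ : c ∈ J) : False := by
  have hd' : d ∈ J := M.mem_of_hyperplane T.hd T.d2 (M.π c) fun p hp e =>
    (T.cd_le p (M.le p hp) ((M.comm_iff hcJ hp).2 e).symm).symm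
  refine T.uV ((M.π_zero _ (J.mul_mem hcJ hd')).1 ?_)
  rw [M.π_mul c hcJ d hd']
  refine pol4_nondeg fun w => ?_
  obtain ⟨p, hp, rfl⟩ := M.π_surj w
  rw [pol4_add_left]
  have h1 : pol4 (M.π c) (M.π p) = 0 → pol4 (M.π d) (M.π p) = 0 := fun e =>
    (M.comm_iff hd' hp).1 (T.cd_le p (M.le p hp) ((M.comm_iff hcJ hp).2 e).symm).symm
  have h2 : pol4 (M.π d) (M.π p) = 0 → pol4 (M.π c) (M.π p) = 0 := fun e =>
    (M.comm_iff hcJ hp).1 (T.dc_le p (M.le p hp) ((M.comm_iff hd' hp).2 e).symm).symm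
  revert h1 h2
  generalize pol4 (M.π c) (M.π p) = s
  generalize pol4 (M.π d) (M.π p) = t
  revert s t
  decide

/-- There are no twins. -/
theorem no_twin (T : Twin z a J c d) : False := by
  by_cases hcJ : c ∈ J
  · exact M.twin_inner T hcJ
  by_cases hdJ : d ∈ J
  · exact M.twin_inner (T.swap M) hdJ
  obtain ⟨k, hk | ⟨l, ho, hne, hk⟩⟩ := M.shape T.hc T.c2 hcJ
  · exact M.twin_point T hcJ hdJ hk
  obtain ⟨g, hg, hbase⟩ := M.pair_move T.hc ho hne hk
  have T' := T.conj M hg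
  have hJ' : ∀ {q : G}, q ∉ J → cj g q ∉ J := fun hq h => hq (by
    have := M.norm g⁻¹ (M.inC_inv hg) _ h; rwa [cj_inv_cj'] at this)
  obtain ⟨y, hy, hρy, s, hys⟩ := M.exists_y
  have hcy : M.ρ (cj g c) * M.ρ y = M.ρ y * M.ρ (cj g c) := by
    rw [hbase, mul_assoc, (M.y_base hy hρy).2, ← mul_assoc, (M.y_base hy hρy).1, mul_assoc]
  obtain ⟨x, hx, hxfix, hxy, hcent⟩ := M.std hy hρy hys T'.hc T'.c2 hcy
  rw [hbase] at hxfix
  have hxW : InW0 (M.π x) := (pair_fix ort_base base_ne).1 hxfix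
  have hfixd : ∀ w, InW0 w → M.ρ (cj g d) w = w := by
    intro w hw
    obtain ⟨p, hp, rfl⟩ := M.π_surj w
    refine M.ρ_fix T'.hd hp (T'.cd_le p (M.le p hp) ?_).symm
    exact ((hcent p hp).2 ⟨by rw [hbase]; exact (pair_fix ort_base base_ne).2 hw,
      pol_of_hh (inW0_ort hxW hw)⟩).symm
  rcases fixW0_code (M.ρ_iso _ T'.hd) hfixd with e | ⟨p, hple, e⟩
  · exact hJ' hdJ ((M.ρ_ker _ T'.hd).1 e)
  by_cases hp : p.1 = p.2
  · exact M.twin_point (T'.swap M) (hJ' hdJ) (hJ' hcJ) (k := H49.UChar.lp p.1)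
      (by rw [e, code, invP, if_pos (congrArg H49.UChar.lp hp)])
  obtain ⟨α, β, hαβ⟩ := inW_span ort_base base_ne hxW
  obtain ⟨w, w1, w2⟩ := exists_values base_ne α β
  obtain ⟨q, hq, hqy⟩ := M.std_center hy T'.hc T'.c2 hx hxy (w := w) (by
    rw [hbase, pair_apply ort_base, ← add_assoc, vec_add_self, zero_add, w1, w2, hαβ])
  obtain ⟨hy', hρy', hy'c⟩ := M.pull hy hq hqy
  have hy'd := T'.cd_le _ hy' hy'c
  have hcomm : M.ρ (cj g d) * M.ρ y = M.ρ y * M.ρ (cj g d) := by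
    rw [← hρy', ← M.ρ_mul _ _ T'.hd hy', ← hy'd, M.ρ_mul _ _ hy' T'.hd]
  obtain ⟨b1, b2⟩ := y_code p (lt_of_le_of_ne hple hp) fun i j => by
    have h := congrArg (fun u => u j) (Equiv.congr_fun hcomm (Pi.single i 1))
    simp only [Equiv.Perm.mul_apply, hρy, e] at h
    exact h
  refine M.twin_product T' (hJ' hcJ) ((M.ρ_ker _ (M.inC_mul T'.hc T'.hd)).1 ?_)
  rw [M.ρ_mul _ _ T'.hc T'.hd, hbase, e, code, invP, if_neg (fun h => base_ne (b1 ▸ b2 ▸ h)), b1, b2]
  rw [mul_assoc, ← mul_assoc (tp j₀), (tp_commute_iff.2 ort_base).symm.eq, mul_assoc (tp i₀),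
    tp_sq, mul_one, tp_sq]

end

end Mod

end Cfsg.Agent.H2.Fi22z
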